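import Cfsg.Agent.H882.Ten.Form
import Cfsg.Agent.LieClassical.OrthFinite

/-!
# Tensor powers of an orthogonal space

`(ι → κ) → F` is the tensor power of `κ → F` over the slots `ι`: pure tensors `tp`, tensor products of operators
`op`, `opE`, one slot `slE`, slot permutations `pe`, the form `QT q`, and for each slot `i` the two-factor
structure `tst i : TSt (ten i) (QT q) q (QT q)` with factors `({j // j ≠ i} → κ) → F` and `κ → F`.
-/

set_option autoImplicit false
set_option linter.unusedSectionVars false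

namespace Cfsg.Agent.H883.C7

open QuadraticMap hiding proj
open Cfsg.Agent.LieClassical.OrthCore Cfsg.Agent.LieClassical.OrthTrans
open Cfsg.Agent.H882.Ten Cfsg.Agent.LieClassical.OrthFinite

variable {F : Type*} [Field F] {κ : Type*} [Fintype κ] [DecidableEq κ] {ι : Type*} [Fintype ι] [DecidableEq ι]

/-! ### pure tensors -/

/-- The pure tensor `⊗ x i`. -/
def tp (x : ι → (κ → F)) : (ι → κ) → F := fun a => ∏ i, x i (a i)

theorem tp_apply (x : ι → (κ → F)) (a : ι → κ) : tp x a = ∏ i, x i (a i) := rfl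

theorem single_eq_tp (a : ι → κ) :
    (Pi.single a (1 : F) : (ι → κ) → F) = tp (fun i => Pi.single (a i) 1) := by
  funext b
  rw [tp_apply]
  by_cases h : a = b
  · subst h
    simp
  · rw [Pi.single_eq_of_ne (Ne.symm h)]
    obtain ⟨i, hi⟩ := Function.ne_iff.1 h
    symm
    exact Finset.prod_eq_zero (Finset.mem_univ i) (Pi.single_eq_of_ne (Ne.symm hi) _)

/-- Linear maps agreeing on the pure tensors are equal. -/
theorem tp_ext {X : Type*} [AddCommGroup X] [Module F X] {A B : ((ι → κ) → F) →ₗ[F] X}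
    (h : ∀ x, A (tp x) = B (tp x)) : A = B := by
  refine (Pi.basisFun F (ι → κ)).ext fun a => ?_
  rw [Pi.basisFun_apply, single_eq_tp, h]

theorem tp_extE {X : Type*} [AddCommGroup X] [Module F X] {A B : ((ι → κ) → F) ≃ₗ[F] X}
    (h : ∀ x, A (tp x) = B (tp x)) : A = B := by
  have := tp_ext (A := (A : ((ι → κ) → F) →ₗ[F] X)) (B := (B : ((ι → κ) → F) →ₗ[F] X)) h
  ext1 v
  exact LinearMap.congr_fun this v

theorem tp_ext2 {X : Type*} [AddCommGroup X] [Module F X] {A B : ((ι → κ) → F) →ₗ[F] ((ι → κ) → F) →ₗ[F] X}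
    (h : ∀ x y, A (tp x) (tp y) = B (tp x) (tp y)) : A = B :=
  tp_ext fun x => tp_ext fun y => h x y

theorem prod_update (x : ι → (κ → F)) (i : ι) (z : κ → F) (a : ι → κ) :
    ∏ j, Function.update x i z j (a j) = z (a i) * ∏ j ∈ Finset.univ.erase i, x j (a j) := by
  rw [← Finset.mul_prod_erase Finset.univ _ (Finset.mem_univ i), Function.update_self]
  congr 1
  refine Finset.prod_congr rfl fun j hj => ?_
  rw [Function.update_of_ne (Finset.ne_of_mem_erase hj)]

theorem tp_update_add (x : ι → (κ → F)) (i : ι) (y z : κ → F) :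
    tp (Function.update x i (y + z)) = tp (Function.update x i y) + tp (Function.update x i z) := by
  funext a
  rw [Pi.add_apply, tp_apply, tp_apply, tp_apply, prod_update, prod_update, prod_update, Pi.add_apply, add_mul]

theorem tp_update_smul (x : ι → (κ → F)) (i : ι) (c : F) (y : κ → F) :
    tp (Function.update x i (c • y)) = c • tp (Function.update x i y) := by
  funext a
  rw [Pi.smul_apply, tp_apply, tp_apply, prod_update, prod_update, Pi.smul_apply, smul_eq_mul, smul_eq_mul,
    mul_assoc]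

theorem tp_update_zero (x : ι → (κ → F)) (i : ι) : tp (Function.update x i 0) = 0 := by
  have := tp_update_smul x i (0 : F) 0
  rwa [zero_smul, zero_smul] at this

theorem tp_ne_zero {x : ι → (κ → F)} (h : ∀ i, x i ≠ 0) : tp x ≠ 0 := by
  have h1 : ∀ i, ∃ a, x i a ≠ 0 := fun i => Function.ne_iff.1 (h i)
  choose a ha using h1
  intro h2
  have h3 := congrFun h2 a
  rw [tp_apply, Pi.zero_apply, Finset.prod_eq_zero_iff] at h3
  obtain ⟨i, _, hi⟩ := h3
  exact ha i hi

/-- `tp` as a multilinear map. -/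
def tpM (F : Type*) [Field F] (ι κ : Type*) [Fintype ι] [DecidableEq ι] :
    MultilinearMap F (fun _ : ι => κ → F) ((ι → κ) → F) where
  toFun := tp
  map_update_add' := by
    intro hd x i y z
    funext a
    rw [Pi.add_apply]
    simp only [tp]
    rw [← Finset.mul_prod_erase Finset.univ _ (Finset.mem_univ i),
      ← Finset.mul_prod_erase Finset.univ (fun j => Function.update x i y j (a j)) (Finset.mem_univ i),
      ← Finset.mul_prod_erase Finset.univ (fun j => Function.update x i z j (a j)) (Finset.mem_univ i)]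
    rw [Function.update_self, Function.update_self, Function.update_self, Pi.add_apply, add_mul]
    congr 2 <;>
    · refine Finset.prod_congr rfl fun j hj => ?_
      rw [Function.update_of_ne (Finset.ne_of_mem_erase hj), Function.update_of_ne (Finset.ne_of_mem_erase hj)]
  map_update_smul' := by
    intro hd x i c y
    funext a
    rw [Pi.smul_apply]
    simp only [tp]
    rw [← Finset.mul_prod_erase Finset.univ _ (Finset.mem_univ i),
      ← Finset.mul_prod_erase Finset.univ (fun j => Function.update x i y j (a j)) (Finset.mem_univ i)]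
    rw [Function.update_self, Function.update_self, Pi.smul_apply, smul_eq_mul, smul_eq_mul, mul_assoc]
    congr 2
    refine Finset.prod_congr rfl fun j hj => ?_
    rw [Function.update_of_ne (Finset.ne_of_mem_erase hj), Function.update_of_ne (Finset.ne_of_mem_erase hj)]

theorem tpM_apply (x : ι → (κ → F)) : tpM F ι κ x = tp x := rfl

/-- scalars in all slots -/
theorem tp_smul_all (x : ι → (κ → F)) (c : ι → F) : tp (fun i => c i • x i) = (∏ i, c i) • tp x := by
  funext a
  rw [Pi.smul_apply, tp_apply, tp_apply, smul_eq_mul, ← Finset.prod_mul_distrib]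
  rfl

/-! ### tensor products of operators -/

/-- The tensor product `⊗ f i` of operators. -/
noncomputable def op (f : ι → Module.End F (κ → F)) : Module.End F ((ι → κ) → F) :=
  Matrix.toLin' (Matrix.of fun a b => ∏ i, f i (Pi.single (b i) 1) (a i))

theorem op_tp (f : ι → Module.End F (κ → F)) (x : ι → (κ → F)) : op f (tp x) = tp (fun i => f i (x i)) := by
  have h : ∀ i (c : κ), f i (x i) c = ∑ b, f i (Pi.single b 1) c * x i b := by
    intro i c
    conv_lhs => rw [← Pi.basisFun F κ |>.sum_repr (x i)]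
    rw [map_sum, Finset.sum_apply]
    refine Finset.sum_congr rfl fun b _ => ?_
    rw [map_smul, Pi.smul_apply, smul_eq_mul, Pi.basisFun_apply, Pi.basisFun_repr, mul_comm]
  rw [op, Matrix.toLin'_apply]
  funext a
  simp only [Matrix.mulVec, dotProduct, Matrix.of_apply, tp_apply, h]
  rw [Finset.prod_univ_sum, Fintype.piFinset_univ]
  exact Finset.sum_congr rfl fun c _ => (Finset.prod_mul_distrib).symm

theorem op_mul (f g : ι → Module.End F (κ → F)) : op (fun i => f i * g i) = op f * op g := by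
  refine tp_ext fun x => ?_
  rw [Module.End.mul_apply, op_tp, op_tp, op_tp]
  rfl

theorem op_one : op (fun _ : ι => (1 : Module.End F (κ → F))) = 1 := by
  refine tp_ext fun x => ?_
  rw [op_tp]
  rfl

theorem op_update_tp (f : ι → Module.End F (κ → F)) (i : ι) (g : Module.End F (κ → F)) (x : ι → (κ → F)) :
    op (Function.update f i g) (tp x) = tp (Function.update (fun j => f j (x j)) i (g (x i))) := by
  rw [op_tp]
  congr 1
  funext j
  by_cases h : j = i
  · subst h; rw [Function.update_self, Function.update_self]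
  · rw [Function.update_of_ne h, Function.update_of_ne h]

theorem op_update_add (f : ι → Module.End F (κ → F)) (i : ι) (g h : Module.End F (κ → F)) :
    op (Function.update f i (g + h)) = op (Function.update f i g) + op (Function.update f i h) := by
  refine tp_ext fun x => ?_
  rw [LinearMap.add_apply, op_update_tp, op_update_tp, op_update_tp, LinearMap.add_apply, tp_update_add]

theorem op_update_smul (f : ι → Module.End F (κ → F)) (i : ι) (c : F) (g : Module.End F (κ → F)) :
    op (Function.update f i (c • g)) = c • op (Function.update f i g) := by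
  refine tp_ext fun x => ?_
  rw [LinearMap.smul_apply, op_update_tp, op_update_tp, LinearMap.smul_apply, tp_update_smul]

/-- `op` on invertible operators. -/
noncomputable def opE : (ι → ((κ → F) ≃ₗ[F] (κ → F))) →* (((ι → κ) → F) ≃ₗ[F] ((ι → κ) → F)) where
  toFun f := LinearEquiv.ofLinearMap (op fun i => (f i : Module.End F (κ → F)))
    (op fun i => ((f i)⁻¹ : (κ → F) ≃ₗ[F] (κ → F)))
    (tp_ext fun x => by
      rw [LinearMap.comp_apply, op_tp, op_tp]
      congr 1
      funext i
      exact LinearEquiv.apply_symm_apply _ _)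
    (tp_ext fun x => by
      rw [LinearMap.comp_apply, op_tp, op_tp]
      congr 1
      funext i
      exact LinearEquiv.symm_apply_apply _ _)
  map_one' := tp_extE fun x => by
    show op _ (tp x) = tp x
    rw [op_tp]
    rfl
  map_mul' f g := tp_extE fun x => by
    show op _ (tp x) = op _ (op _ (tp x))
    rw [op_tp, op_tp, op_tp]
    rfl

theorem opE_tp (f : ι → ((κ → F) ≃ₗ[F] (κ → F))) (x : ι → (κ → F)) :
    opE f (tp x) = tp (fun i => f i (x i)) := op_tp _ x

theorem opE_coe (f : ι → ((κ → F) ≃ₗ[F] (κ → F))) (v : (ι → κ) → F) :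
    opE f v = op (fun i => (f i : Module.End F (κ → F))) v := rfl

/-- `f` in slot `i`. -/
noncomputable def sl (i : ι) (f : Module.End F (κ → F)) : Module.End F ((ι → κ) → F) :=
  op (Function.update (fun _ => 1) i f)

theorem sl_tp (i : ι) (f : Module.End F (κ → F)) (x : ι → (κ → F)) :
    sl i f (tp x) = tp (Function.update x i (f (x i))) := by
  rw [sl, op_update_tp]
  rfl

/-- slot `i` as an algebra homomorphism -/
noncomputable def slA (i : ι) : Module.End F (κ → F) →ₐ[F] Module.End F ((ι → κ) → F) :=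
  AlgHom.ofLinearMap
    { toFun := sl i
      map_add' := fun f g => op_update_add _ i f g
      map_smul' := fun c f => op_update_smul _ i c f }
    (tp_ext fun x => by
      show sl i 1 (tp x) = tp x
      rw [sl_tp, Module.End.one_apply, Function.update_eq_self])
    (fun f g => tp_ext fun x => by
      show sl i (f * g) (tp x) = sl i f (sl i g (tp x))
      rw [sl_tp, sl_tp, sl_tp, Function.update_idem, Function.update_self, Module.End.mul_apply])

theorem slA_apply (i : ι) (f : Module.End F (κ → F)) : slA i f = sl i f := rfl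

theorem sl_mul (i : ι) (f g : Module.End F (κ → F)) : sl i (f * g) = sl i f * sl i g := map_mul (slA i) f g

theorem sl_one (i : ι) : sl i (1 : Module.End F (κ → F)) = 1 := map_one (slA i)

theorem sl_add (i : ι) (f g : Module.End F (κ → F)) : sl i (f + g) = sl i f + sl i g := map_add (slA i) f g

theorem sl_sub (i : ι) (f g : Module.End F (κ → F)) : sl i (f - g) = sl i f - sl i g := map_sub (slA i) f g

theorem sl_smul (i : ι) (c : F) (f : Module.End F (κ → F)) : sl i (c • f) = c • sl i f := map_smul (slA i) c f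

theorem sl_comm {i j : ι} (h : i ≠ j) (f g : Module.End F (κ → F)) : sl i f * sl j g = sl j g * sl i f := by
  refine tp_ext fun x => ?_
  rw [Module.End.mul_apply, Module.End.mul_apply, sl_tp, sl_tp, sl_tp, sl_tp, Function.update_of_ne h,
    Function.update_of_ne (Ne.symm h), Function.update_comm h]

/-- An isometry in slot `i`. -/
noncomputable def slE (i : ι) : ((κ → F) ≃ₗ[F] (κ → F)) →* (((ι → κ) → F) ≃ₗ[F] ((ι → κ) → F)) :=
  (opE (F := F) (κ := κ) (ι := ι)).comp (MonoidHom.mulSingle (fun _ => (κ → F) ≃ₗ[F] (κ → F)) i)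

theorem slE_eq (i : ι) (f : (κ → F) ≃ₗ[F] (κ → F)) : slE i f = opE (Pi.mulSingle i f) := rfl

theorem slE_tp (i : ι) (f : (κ → F) ≃ₗ[F] (κ → F)) (x : ι → (κ → F)) :
    slE i f (tp x) = tp (Function.update x i (f (x i))) := by
  rw [slE_eq, opE_tp]
  congr 1
  funext j
  by_cases h : j = i
  · subst h; rw [Function.update_self, Pi.mulSingle_eq_same]
  · rw [Function.update_of_ne h, Pi.mulSingle_eq_of_ne h]; rfl

theorem slE_coe (i : ι) (f : (κ → F) ≃ₗ[F] (κ → F)) (v : (ι → κ) → F) :
    slE i f v = sl i (f : Module.End F (κ → F)) v := by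
  have : ((slE i f : ((ι → κ) → F) ≃ₗ[F] ((ι → κ) → F)) : Module.End F ((ι → κ) → F)) = sl i f :=
    tp_ext fun x => by rw [LinearEquiv.coe_coe, slE_tp, sl_tp]; rfl
  exact LinearMap.congr_fun this v

theorem slE_comm {i j : ι} (h : i ≠ j) (f g : (κ → F) ≃ₗ[F] (κ → F)) : slE i f * slE j g = slE j g * slE i f := by
  refine tp_extE fun x => ?_
  rw [LinearEquiv.mul_apply, LinearEquiv.mul_apply, slE_tp, slE_tp, slE_tp, slE_tp, Function.update_of_ne h,
    Function.update_of_ne (Ne.symm h), Function.update_comm h]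

/-- Permutation of the slots. -/
def pe : Equiv.Perm ι →* (((ι → κ) → F) ≃ₗ[F] ((ι → κ) → F)) where
  toFun σ := LinearEquiv.funCongrLeft F F (Equiv.arrowCongr σ⁻¹ (Equiv.refl κ))
  map_one' := by ext v a; rfl
  map_mul' σ τ := by ext v a; rfl

theorem pe_apply (σ : Equiv.Perm ι) (v : (ι → κ) → F) (a : ι → κ) : pe σ v a = v (fun i => a (σ i)) := rfl

theorem pe_tp (σ : Equiv.Perm ι) (x : ι → (κ → F)) : pe σ (tp x) = tp (fun i => x (σ⁻¹ i)) := by
  funext a
  rw [pe_apply, tp_apply, tp_apply]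
  have := Equiv.prod_comp σ (fun i => x (σ⁻¹ i) (a i))
  rw [← this]
  exact Finset.prod_congr rfl fun i _ => by
    have : σ⁻¹ (σ i) = i := σ.symm_apply_apply i
    rw [this]

theorem pe_conj_opE (σ : Equiv.Perm ι) (f : ι → ((κ → F) ≃ₗ[F] (κ → F))) :
    pe σ * opE f * (pe σ)⁻¹ = opE (fun i => f (σ⁻¹ i)) := by
  rw [mul_inv_eq_iff_eq_mul]
  refine tp_extE fun x => ?_
  rw [LinearEquiv.mul_apply, LinearEquiv.mul_apply, opE_tp, pe_tp, pe_tp, opE_tp]

theorem pe_conj_slE (σ : Equiv.Perm ι) (i : ι) (f : (κ → F) ≃ₗ[F] (κ → F)) :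
    pe σ * slE i f * (pe σ)⁻¹ = slE (σ i) f := by
  rw [slE_eq, pe_conj_opE, slE_eq]
  congr 1
  funext j
  by_cases h : j = σ i
  · subst h
    have : σ⁻¹ (σ i) = i := σ.symm_apply_apply i
    rw [this, Pi.mulSingle_eq_same, Pi.mulSingle_eq_same]
  · rw [Pi.mulSingle_eq_of_ne h, Pi.mulSingle_eq_of_ne]
    intro h'
    refine h ?_
    rw [← h']
    exact (σ.apply_symm_apply j).symm

/-! ### the form -/

/-- The tensor power of the polar form of `q`. -/
noncomputable def BT (q : QuadraticForm F (κ → F)) (ι : Type*) [Fintype ι] [DecidableEq ι] :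
    LinearMap.BilinForm F ((ι → κ) → F) :=
  Matrix.toBilin' (Matrix.of fun a b => ∏ i, polar q (Pi.single (a i) 1) (Pi.single (b i) 1))

theorem BT_tp (q : QuadraticForm F (κ → F)) (x y : ι → (κ → F)) :
    BT q ι (tp x) (tp y) = ∏ i, polar q (x i) (y i) := by
  have hx : ∀ z : κ → F, z = ∑ b, z b • (Pi.single b (1 : F) : κ → F) := by
    intro z
    conv_lhs => rw [← Pi.basisFun F κ |>.sum_repr z]
    exact Finset.sum_congr rfl fun b _ => by rw [Pi.basisFun_apply, Pi.basisFun_repr]
  have h : ∀ i, polar q (x i) (y i) = ∑ p : κ × κ,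
      x i p.1 * polar q (Pi.single p.1 1) (Pi.single p.2 1) * y i p.2 := by
    intro i
    rw [Fintype.sum_prod_type]
    have h1 : polar q (x i) (y i) = polarBilin q (x i) (y i) := rfl
    rw [h1]
    conv_lhs => rw [hx (x i), hx (y i)]
    rw [map_sum, Finset.sum_comm]
    refine Finset.sum_congr rfl fun c _ => ?_
    rw [map_sum, LinearMap.sum_apply]
    refine Finset.sum_congr rfl fun b _ => ?_
    rw [map_smul, map_smul, LinearMap.smul_apply, smul_eq_mul, smul_eq_mul, polarBilin_apply_apply]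
    ring
  rw [Finset.prod_congr rfl fun i _ => h i, Finset.prod_univ_sum, Fintype.piFinset_univ, BT,
    Matrix.toBilin'_apply]
  rw [← Fintype.sum_prod_type']
  rw [← Equiv.sum_comp (Equiv.arrowProdEquivProdArrow ι (fun _ => κ) (fun _ => κ))]
  refine Finset.sum_congr rfl fun p _ => ?_
  simp only [tp_apply, Equiv.arrowProdEquivProdArrow_apply, Matrix.of_apply]
  rw [← Finset.prod_mul_distrib, ← Finset.prod_mul_distrib]

theorem BT_symm (q : QuadraticForm F (κ → F)) (x y : (ι → κ) → F) : BT q ι x y = BT q ι y x := by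
  have : BT q ι = (BT q ι).flip := by
    refine tp_ext2 fun x y => ?_
    rw [BT_tp]
    show _ = BT q ι (tp y) (tp x)
    rw [BT_tp]
    exact Finset.prod_congr rfl fun i _ => polar_comm q _ _
  exact LinearMap.congr_fun (LinearMap.congr_fun this x) y

/-- The quadratic form on the tensor power. -/
noncomputable def QT (q : QuadraticForm F (κ → F)) (ι : Type*) [Fintype ι] [DecidableEq ι] :
    QuadraticForm F ((ι → κ) → F) :=
  ((2 : F)⁻¹ • BT q ι).toQuadraticMap

section form

variable {q : QuadraticForm F (κ → F)}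

theorem polar_QT (h2 : (2 : F) ≠ 0) (x y : (ι → κ) → F) : polar (QT q ι) x y = BT q ι x y := by
  rw [QT, LinearMap.BilinMap.polar_toQuadraticMap, LinearMap.smul_apply, LinearMap.smul_apply,
    LinearMap.smul_apply, LinearMap.smul_apply, BT_symm q y x, smul_eq_mul, ← mul_add, ← two_mul,
    ← mul_assoc, inv_mul_cancel₀ h2, one_mul]

theorem polar_tp (h2 : (2 : F) ≠ 0) (x y : ι → (κ → F)) :
    polar (QT q ι) (tp x) (tp y) = ∏ i, polar q (x i) (y i) := by rw [polar_QT h2, BT_tp]

theorem polar_ext_tp (h2 : (2 : F) ≠ 0) {g : ((ι → κ) → F) ≃ₗ[F] ((ι → κ) → F)}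
    (h : ∀ x y, polar (QT q ι) (g (tp x)) (g (tp y)) = polar (QT q ι) (tp x) (tp y)) : g ∈ O (QT q ι) := by
  refine mem_O_of_polar h2 fun x y => ?_
  have := tp_ext2 (A := (polarBilin (QT q ι)).compl₁₂ (g : ((ι → κ) → F) →ₗ[F] ((ι → κ) → F))
    (g : ((ι → κ) → F) →ₗ[F] ((ι → κ) → F))) (B := polarBilin (QT q ι)) (fun x y => h x y)
  exact LinearMap.congr_fun (LinearMap.congr_fun this x) y

/-- A dual basis. -/
theorem exists_dual (hq : Nondeg q) : ∃ d : κ → (κ → F), ∀ b (x : κ → F), polar q x (d b) = x b := by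
  have hinj : Function.Injective (polarBilin q : (κ → F) →ₗ[F] ((κ → F) →ₗ[F] F)) := by
    rw [← LinearMap.ker_eq_bot, LinearMap.ker_eq_bot']
    intro u hu
    exact hq u fun v => by
      have := LinearMap.congr_fun hu v
      exact this
  have hfin : Module.finrank F (κ → F) = Module.finrank F ((κ → F) →ₗ[F] F) :=
    (Subspace.dual_finrank_eq (K := F) (V := κ → F)).symm
  have hsurj := (LinearMap.injective_iff_surjective_of_finrank_eq_finrank hfin).1 hinj
  have h : ∀ b : κ, ∃ d : κ → F, ∀ x : κ → F, polar q x d = x b := by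
    intro b
    obtain ⟨d, hd⟩ := hsurj (LinearMap.proj b)
    refine ⟨d, fun x => ?_⟩
    have := LinearMap.congr_fun hd x
    rw [polarBilin_apply_apply, polar_comm] at this
    exact this
  choose d hd using h
  exact ⟨d, hd⟩

theorem nondeg_QT (h2 : (2 : F) ≠ 0) (hq : Nondeg q) : Nondeg (QT q ι) := by
  obtain ⟨d, hd⟩ := exists_dual hq
  have key : ∀ b : ι → κ, (polarBilin (QT q ι)).flip (tp fun i => d (b i)) = LinearMap.proj b := by
    intro b
    refine tp_ext fun x => ?_
    rw [LinearMap.flip_apply, polarBilin_apply_apply, polar_tp h2, LinearMap.proj_apply, tp_apply]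
    exact Finset.prod_congr rfl fun i _ => hd _ _
  intro v hv
  funext b
  have := LinearMap.congr_fun (key b) v
  rw [LinearMap.flip_apply, polarBilin_apply_apply, hv, LinearMap.proj_apply] at this
  rw [← this]
  rfl

theorem good_QT [Finite F] (h2 : (2 : F) ≠ 0) (hq : Nondeg q) (hd : 5 ≤ Fintype.card κ ^ Fintype.card ι) :
    Good (QT q ι) := by
  refine good_of_finite (nondeg_QT h2 hq) ?_
  rw [Module.finrank_fintype_fun_eq_card, Fintype.card_fun]
  exact hd

/-- Similarities with multipliers of product one. -/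
theorem opE_mem_O_of_sim (h2 : (2 : F) ≠ 0) {f : ι → ((κ → F) ≃ₗ[F] (κ → F))} {c : ι → F}
    (hf : ∀ i x y, polar q (f i x) (f i y) = c i * polar q x y) (hc : ∏ i, c i = 1) : opE f ∈ O (QT q ι) := by
  refine polar_ext_tp h2 fun x y => ?_
  rw [opE_tp, opE_tp, polar_tp h2, polar_tp h2, Finset.prod_congr rfl fun i _ => hf i _ _,
    Finset.prod_mul_distrib, hc, one_mul]

theorem opE_mem_O (h2 : (2 : F) ≠ 0) {f : ι → ((κ → F) ≃ₗ[F] (κ → F))} (hf : ∀ i, f i ∈ O q) :
    opE f ∈ O (QT q ι) :=
  opE_mem_O_of_sim h2 (c := fun _ => 1) (fun i x y => by rw [polar_map (hf i), one_mul]) (by simp)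

theorem slE_mem_O (h2 : (2 : F) ≠ 0) (i : ι) {f : (κ → F) ≃ₗ[F] (κ → F)} (hf : f ∈ O q) :
    slE i f ∈ O (QT q ι) := by
  rw [slE_eq]
  refine opE_mem_O h2 fun j => ?_
  by_cases h : j = i
  · subst h; rw [Pi.mulSingle_eq_same]; exact hf
  · rw [Pi.mulSingle_eq_of_ne h]; exact (O q).one_mem

theorem pe_mem_O (h2 : (2 : F) ≠ 0) (σ : Equiv.Perm ι) : pe σ ∈ O (QT q ι) := by
  refine polar_ext_tp h2 fun x y => ?_
  rw [pe_tp, pe_tp, polar_tp h2, polar_tp h2]
  exact Equiv.prod_comp σ⁻¹ (fun i => polar q (x i) (y i))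

theorem pe_sq_mem_E (h2 : (2 : F) ≠ 0) (hG : Good (QT q ι)) (σ : Equiv.Perm ι) : pe (σ * σ) ∈ E (QT q ι) := by
  rw [map_mul]
  exact sq_mem_E hG (pe_mem_O h2 σ)

/-- `g` in two slots. -/
theorem slE_mul_slE_mem_E (h2 : (2 : F) ≠ 0) (hG : Good (QT q ι)) (i j : ι) {g : (κ → F) ≃ₗ[F] (κ → F)}
    (hg : g ∈ O q) : slE i g * slE j g ∈ E (QT q ι) := by
  have hs := slE_mem_O h2 i hg (ι := ι)
  have hp := pe_mem_O (q := q) h2 (Equiv.swap i j)
  have h1 : slE j g = pe (Equiv.swap i j) * slE i g * (pe (Equiv.swap i j))⁻¹ := by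
    rw [pe_conj_slE, Equiv.swap_apply_left]
  rw [h1]
  have h3 : slE i g * (pe (Equiv.swap i j) * slE i g * (pe (Equiv.swap i j))⁻¹) =
      (slE i g * slE i g) * ((slE i g)⁻¹ * pe (Equiv.swap i j) * (slE i g)⁻¹⁻¹ * (pe (Equiv.swap i j))⁻¹) := by
    group
  rw [h3]
  refine (E (QT q ι)).mul_mem (sq_mem_E hG hs) ?_
  rw [← hG.commutator_eq_E]
  exact Subgroup.commutator_mem_commutator ((O (QT q ι)).inv_mem hs) hp

theorem opE_sq_mem_E (h2 : (2 : F) ≠ 0) (hG : Good (QT q ι)) {f : ι → ((κ → F) ≃ₗ[F] (κ → F))}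
    (hf : ∀ i, f i ∈ O q) : opE (fun i => f i * f i) ∈ E (QT q ι) := by
  have := sq_mem_E hG (opE_mem_O h2 hf)
  rw [← map_mul] at this
  exact this

end form

/-! ### two factors: slot `i` and the rest -/

/-- `u` in slot `i`, `y` in the others. -/
def ins {α : Type*} (i : ι) (y : {j // j ≠ i} → α) (u : α) : ι → α :=
  fun j => if h : j = i then u else y ⟨j, h⟩

theorem ins_same {α : Type*} (i : ι) (y : {j // j ≠ i} → α) (u : α) : ins i y u i = u := dif_pos rfl

theorem ins_ne {α : Type*} (i : ι) (y : {j // j ≠ i} → α) (u : α) {j : ι} (h : j ≠ i) :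
    ins i y u j = y ⟨j, h⟩ := dif_neg h

theorem ins_sub {α : Type*} (i : ι) (y : {j // j ≠ i} → α) (u : α) (j : {j // j ≠ i}) :
    ins i y u j = y j := ins_ne i y u j.2

theorem ins_restrict {α : Type*} (i : ι) (x : ι → α) : ins i (fun j => x j) (x i) = x := by
  funext j
  by_cases h : j = i
  · subst h; rw [ins_same]
  · rw [ins_ne i _ _ h]

theorem update_ins {α : Type*} (i : ι) (y : {j // j ≠ i} → α) (u v : α) :
    Function.update (ins i y u) i v = ins i y v := by
  funext j
  by_cases h : j = i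
  · subst h; rw [Function.update_self, ins_same]
  · rw [Function.update_of_ne h, ins_ne i _ _ h, ins_ne i _ _ h]

theorem update_ins_ne {α : Type*} (i : ι) (y : {j // j ≠ i} → α) (u v : α) (j : {j // j ≠ i}) :
    Function.update (ins i y u) j v = ins i (Function.update y j v) u := by
  funext l
  by_cases h : l = i
  · subst h; rw [ins_same, Function.update_of_ne (fun h => j.2 h.symm), ins_same]
  · rw [ins_ne i _ _ h]
    by_cases h' : l = j
    · subst h'
      rw [Function.update_self]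
      have : (⟨(j : ι), h⟩ : {j // j ≠ i}) = j := rfl
      rw [this, Function.update_self]
    · rw [Function.update_of_ne h', Function.update_of_ne (fun h'' => h' (by rw [← h''])), ins_ne i _ _ h]

/-- The tensor map: the rest, slot `i`. -/
def ten (F : Type*) [Field F] (κ : Type*) [Fintype κ] [DecidableEq κ] {ι : Type*} [Fintype ι] [DecidableEq ι] (i : ι) : (({j // j ≠ i} → κ) → F) →ₗ[F] (κ → F) →ₗ[F] ((ι → κ) → F) :=
  LinearMap.mk₂ F (fun a u c => a (fun j => c j) * u (c i))
    (fun a a' u => by funext c; simp only [Pi.add_apply, add_mul])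
    (fun r a u => by funext c; simp only [Pi.smul_apply, smul_eq_mul, mul_assoc])
    (fun a u u' => by funext c; simp only [Pi.add_apply, mul_add])
    (fun r a u => by funext c; simp only [Pi.smul_apply, smul_eq_mul]; ring)

theorem ten_apply (i : ι) (a : ({j // j ≠ i} → κ) → F) (u : κ → F) (c : ι → κ) :
    ten F κ i a u c = a (fun j => c j) * u (c i) := rfl

theorem ten_tp (i : ι) (y : {j // j ≠ i} → (κ → F)) (u : κ → F) : ten F κ i (tp y) u = tp (ins i y u) := by
  funext c
  rw [ten_apply, tp_apply, tp_apply, Fintype.prod_eq_mul_prod_subtype_ne _ i, ins_same, mul_comm]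
  congr 1
  exact Finset.prod_congr rfl fun j _ => by rw [ins_sub]

theorem tp_eq_ten (i : ι) (x : ι → (κ → F)) : tp x = ten F κ i (tp fun j => x j) (x i) := by
  rw [ten_tp, ins_restrict]

theorem isTen (F : Type*) [Field F] (κ : Type*) [Fintype κ] [DecidableEq κ] {ι : Type*} [Fintype ι] [DecidableEq ι] (i : ι) : IsTensorProduct (ten F κ i) := by
  have hsurj : Function.Surjective (TensorProduct.lift (ten F κ i)) := by
    rw [← LinearMap.range_eq_top, eq_top_iff, ← (Pi.basisFun F (ι → κ)).span_eq, Submodule.span_le]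
    rintro _ ⟨a, rfl⟩
    refine ⟨(tp fun j : {j // j ≠ i} => Pi.single (a j) 1) ⊗ₜ Pi.single (a i) 1, ?_⟩
    rw [TensorProduct.lift.tmul, Pi.basisFun_apply, single_eq_tp, tp_eq_ten i]
  have hfin : Module.finrank F (TensorProduct F (({j // j ≠ i} → κ) → F) (κ → F)) =
      Module.finrank F ((ι → κ) → F) := by
    rw [Module.finrank_tensorProduct, Module.finrank_fintype_fun_eq_card, Module.finrank_fintype_fun_eq_card,
      Module.finrank_fintype_fun_eq_card, Fintype.card_congr (Equiv.funSplitAt i κ), Fintype.card_prod, mul_comm]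
  exact ⟨(LinearMap.injective_iff_surjective_of_finrank_eq_finrank hfin).2 hsurj, hsurj⟩

theorem slE_ten (i : ι) (g : (κ → F) ≃ₗ[F] (κ → F)) (a : ({j // j ≠ i} → κ) → F) (u : κ → F) :
    slE i g (ten F κ i a u) = ten F κ i a (g u) := by
  have : ((slE i g : ((ι → κ) → F) ≃ₗ[F] ((ι → κ) → F)) : Module.End F ((ι → κ) → F)) ∘ₗ (ten F κ i).flip u =
      (ten F κ i).flip (g u) := tp_ext fun y => by
    rw [LinearMap.comp_apply, LinearMap.flip_apply, LinearMap.flip_apply, ten_tp, ten_tp, LinearEquiv.coe_coe,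
      slE_tp, ins_same, update_ins]
  exact LinearMap.congr_fun this a

theorem sl_ten (i : ι) (g : Module.End F (κ → F)) (a : ({j // j ≠ i} → κ) → F) (u : κ → F) :
    sl i g (ten F κ i a u) = ten F κ i a (g u) := by
  have : sl i g ∘ₗ (ten F κ i).flip u = (ten F κ i).flip (g u) := tp_ext fun y => by
    rw [LinearMap.comp_apply, LinearMap.flip_apply, LinearMap.flip_apply, ten_tp, ten_tp,
      sl_tp, ins_same, update_ins]
  exact LinearMap.congr_fun this a

theorem slE_eq_rW (i : ι) (g : (κ → F) ≃ₗ[F] (κ → F)) : slE i g = rW (isTen F κ i) g :=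
  ext_t' (isTen F κ i) fun a u => by rw [slE_ten, rW_apply]

theorem slE_sub_ten (i : ι) (j : {j // j ≠ i}) (g : (κ → F) ≃ₗ[F] (κ → F)) (a : ({j // j ≠ i} → κ) → F)
    (u : κ → F) : slE (j : ι) g (ten F κ i a u) = ten F κ i (slE j g a) u := by
  have : ((slE (j : ι) g : ((ι → κ) → F) ≃ₗ[F] ((ι → κ) → F)) : Module.End F ((ι → κ) → F)) ∘ₗ (ten F κ i).flip u =
      (ten F κ i).flip u ∘ₗ ((slE j g : (({j // j ≠ i} → κ) → F) ≃ₗ[F] (({j // j ≠ i} → κ) → F)) :
        Module.End F (({j // j ≠ i} → κ) → F)) := tp_ext fun y => by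
    rw [LinearMap.comp_apply, LinearMap.flip_apply, LinearMap.comp_apply, LinearMap.flip_apply, ten_tp,
      LinearEquiv.coe_coe, LinearEquiv.coe_coe, slE_tp, slE_tp, ten_tp, ins_sub, update_ins_ne]
  exact LinearMap.congr_fun this a

theorem slE_sub (i : ι) (j : {j // j ≠ i}) (g : (κ → F) ≃ₗ[F] (κ → F)) :
    slE (j : ι) g = rU (isTen F κ i) (slE j g) :=
  ext_t' (isTen F κ i) fun a u => by rw [slE_sub_ten, rU_apply]

theorem op_ten (i : ι) (f : ι → Module.End F (κ → F)) (a : ({j // j ≠ i} → κ) → F) (u : κ → F) :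
    op f (ten F κ i a u) = ten F κ i (op (fun j : {j // j ≠ i} => f j) a) (f i u) := by
  have : op f ∘ₗ (ten F κ i).flip u = (ten F κ i).flip (f i u) ∘ₗ op (fun j : {j // j ≠ i} => f j) := tp_ext fun y => by
    rw [LinearMap.comp_apply, LinearMap.flip_apply, LinearMap.comp_apply, LinearMap.flip_apply, ten_tp,
      op_tp, op_tp, ten_tp]
    congr 1
    funext l
    by_cases h : l = i
    · subst h; rw [ins_same, ins_same]
    · rw [ins_ne i _ _ h, ins_ne i _ _ h]
  exact LinearMap.congr_fun this a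

theorem opE_ten (i : ι) (f : ι → ((κ → F) ≃ₗ[F] (κ → F))) (a : ({j // j ≠ i} → κ) → F) (u : κ → F) :
    opE f (ten F κ i a u) = ten F κ i (opE (fun j : {j // j ≠ i} => f j) a) (f i u) :=
  op_ten i (fun j => (f j : Module.End F (κ → F))) a u

theorem opE_eq_tm (i : ι) (f : ι → ((κ → F) ≃ₗ[F] (κ → F))) :
    opE f = tm (isTen F κ i) (opE (fun j : {j // j ≠ i} => f j)) (f i) :=
  ext_t' (isTen F κ i) fun a u => by rw [opE_ten, tm_apply]

/-- Every pair of a pure element of the rest and an element of slot `i` is pure. -/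
theorem tm_opE (i : ι) (f : {j // j ≠ i} → ((κ → F) ≃ₗ[F] (κ → F))) (g : (κ → F) ≃ₗ[F] (κ → F)) :
    tm (isTen F κ i) (opE f) g = opE (ins i f g) := by
  have h : (fun j : {j // j ≠ i} => ins i f g j) = f := funext fun j => ins_sub i f g j
  rw [opE_eq_tm i, ins_same, h]

/-- The two-factor structure at slot `i`. -/
theorem tst {q : QuadraticForm F (κ → F)} (h2 : (2 : F) ≠ 0) (hq : Nondeg q) (i : ι) :
    TSt (ten F κ i) (QT q {j // j ≠ i}) q (QT q ι) where
  ten := isTen F κ i
  two := h2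
  pol := by
    intro a u a' u'
    have : ((polarBilin (QT q ι)).compl₁₂ ((ten F κ i).flip u) ((ten F κ i).flip u')) =
        polar q u u' • polarBilin (QT q {j // j ≠ i}) := by
      refine tp_ext2 fun y y' => ?_
      rw [LinearMap.compl₁₂_apply, LinearMap.flip_apply, LinearMap.flip_apply, ten_tp, ten_tp,
        polarBilin_apply_apply, polar_tp h2, LinearMap.smul_apply, LinearMap.smul_apply, polarBilin_apply_apply,
        polar_tp h2, smul_eq_mul, Fintype.prod_eq_mul_prod_subtype_ne _ i, ins_same, ins_same]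
      congr 1
      exact Finset.prod_congr rfl fun j _ => by rw [ins_sub, ins_sub]
    have h := LinearMap.congr_fun (LinearMap.congr_fun this a) a'
    rw [LinearMap.compl₁₂_apply, LinearMap.flip_apply, LinearMap.flip_apply, polarBilin_apply_apply,
      LinearMap.smul_apply, LinearMap.smul_apply, polarBilin_apply_apply, smul_eq_mul, mul_comm] at h
    exact h
  ndU := nondeg_QT h2 hq
  ndW := hq

theorem slE_siegel_mem_E {q : QuadraticForm F (κ → F)} (h2 : (2 : F) ≠ 0) (hG : Good (QT q ι)) (i : ι)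
    {u x : κ → F} (hu : q u = 0) (hx : polar q u x = 0) : slE i (siegel q u x hu hx) ∈ E (QT q ι) := by
  have hx' : polar q u ((2 : F)⁻¹ • x) = 0 := by rw [polar_smul_right, hx, smul_zero]
  have hs : polar q u ((2 : F)⁻¹ • x + (2 : F)⁻¹ • x) = 0 := by rw [polar_add_right, hx', add_zero]
  have e : (2 : F)⁻¹ • x + (2 : F)⁻¹ • x = x := by
    rw [← add_smul]
    have : (2 : F)⁻¹ + 2⁻¹ = 1 := by
      field_simp
      norm_num
    rw [this, one_smul]
  have h1 : siegel q u x hu hx =
      siegel q u ((2 : F)⁻¹ • x) hu hx' * siegel q u ((2 : F)⁻¹ • x) hu hx' := by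
    rw [siegel_mul hu hx' hx' hs]
    ext v
    rw [siegel_apply, siegel_apply, e]
  rw [h1, map_mul]
  exact sq_mem_E hG (slE_mem_O h2 i (siegel_mem_O hu hx'))

theorem slE_mem_E {q : QuadraticForm F (κ → F)} (h2 : (2 : F) ≠ 0) (hG : Good (QT q ι)) (i : ι)
    {g : (κ → F) ≃ₗ[F] (κ → F)} (hg : g ∈ E q) : slE i g ∈ E (QT q ι) := by
  induction hg using Subgroup.closure_induction with
  | mem x hx =>
    obtain ⟨u, w, hu, hw, rfl⟩ := hx
    exact slE_siegel_mem_E h2 hG i hu hw
  | one => rw [map_one]; exact (E (QT q ι)).one_mem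
  | mul a b _ _ ha hb => rw [map_mul]; exact (E (QT q ι)).mul_mem ha hb
  | inv a _ ha => rw [map_inv]; exact (E (QT q ι)).inv_mem ha

/-- commutators in one slot -/
theorem slE_comm_mem_E {q : QuadraticForm F (κ → F)} (h2 : (2 : F) ≠ 0) (hG : Good (QT q ι)) (i : ι)
    {g : (κ → F) ≃ₗ[F] (κ → F)} (hg : g ∈ ⁅O q, O q⁆) : slE i g ∈ E (QT q ι) := by
  rw [← hG.commutator_eq_E]
  have h1 : (⁅O q, O q⁆).map (slE i) ≤ ⁅O (QT q ι), O (QT q ι)⁆ := by
    rw [Subgroup.map_commutator]
    refine Subgroup.commutator_mono ?_ ?_ <;>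
    · rintro _ ⟨x, hx, rfl⟩
      exact slE_mem_O h2 i hx
  exact h1 ⟨g, hg, rfl⟩

theorem cw_tp {q : QuadraticForm F (κ → F)} (h2 : (2 : F) ≠ 0) (hq : Nondeg q) (i : ι) (w : κ → F)
    (x : ι → (κ → F)) : (tst (ι := ι) h2 hq i).cw w (tp x) = polar q w (x i) • tp (fun j : {j // j ≠ i} => x j) := by
  rw [tp_eq_ten i, TSt.cw_t]

/-! ### the groups -/

/-- `g` permutes the pure tensors: a tensor product of operators followed by a permutation of the slots. -/
def IsMono (g : ((ι → κ) → F) ≃ₗ[F] ((ι → κ) → F)) : Prop :=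
  ∃ (f : ι → ((κ → F) ≃ₗ[F] (κ → F))) (σ : Equiv.Perm ι), g = opE f * pe σ

/-- The subgroup `M` contains all monomial elements of `E (QT q ι)`. -/
def Over (q : QuadraticForm F (κ → F)) (M : Subgroup (((ι → κ) → F) ≃ₗ[F] ((ι → κ) → F))) : Prop :=
  M ≤ E (QT q ι) ∧ ∀ g ∈ E (QT q ι), IsMono g → g ∈ M

/-- `M` is thin: an element of `M` which is trivial on `(A_i ⊗ w)^⊥`, `w` singular, is `1`. -/
def Thin (q : QuadraticForm F (κ → F)) (M : Subgroup (((ι → κ) → F) ≃ₗ[F] ((ι → κ) → F))) : Prop :=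
  ∀ (i : ι) (w : κ → F), w ≠ 0 → q w = 0 → ∀ g ∈ M,
    (∀ v, (∀ a, polar (QT q ι) v (ten F κ i a w) = 0) → g v = v) → g = 1

/-- `g 𝒜_i g⁻¹ ⊆ 𝒜_j` for the slot algebras `𝒜_i = sl i (End U)`. -/
def Carries (g : ((ι → κ) → F) ≃ₗ[F] ((ι → κ) → F)) (i j : ι) : Prop :=
  ∀ f : Module.End F (κ → F), ∃ f' : Module.End F (κ → F), ∀ v, g (sl i f v) = sl j f' (g v)

/-- (D): an element of `M` carrying `A_i ⊗ w` to `A_j ⊗ w'`, `w` singular, carries slot `i` to slot `j`. -/
def DProp (q : QuadraticForm F (κ → F)) (M : Subgroup (((ι → κ) → F) ≃ₗ[F] ((ι → κ) → F))) : Prop :=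
  ∀ g ∈ M, ∀ (i j : ι) (w w' : κ → F), w ≠ 0 → w' ≠ 0 → q w = 0 →
    (∀ a, ∃ b, g (ten F κ i a w) = ten F κ j b w') → Carries g i j

end Cfsg.Agent.H883.C7
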