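import Cfsg.Agent.H883.C7.Cent

/-!
# Elements commuting with the Siegel group of a slot: structure
-/

set_option autoImplicit false
set_option linter.unusedSectionVars false
set_option linter.unusedSimpArgs false

namespace Cfsg.Agent.H883.C7

open QuadraticMap hiding proj
open Cfsg.Agent.LieClassical.OrthCore Cfsg.Agent.LieClassical.OrthTrans
open Cfsg.Agent.H882.Ten

section gen

variable {F : Type*} {U : Type*} {W : Type*} {V : Type*} [Field F] [AddCommGroup U] [Module F U]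
  [AddCommGroup W] [Module F W] [AddCommGroup V] [Module F V]
  {t : U →ₗ[F] W →ₗ[F] V} {QU : QuadraticForm F U} {QW : QuadraticForm F W} {Q : QuadraticForm F V}
  {X : Subgroup (V ≃ₗ[F] V)}

/-- `b = (α ⊗ 1) + ζ ⊗ om_w` -/
def IsB (t : U →ₗ[F] W →ₗ[F] V) (QW : QuadraticForm F W) (w : W) (b : V ≃ₗ[F] V) (α : U ≃ₗ[F] U)
    (ζ : Module.End F U) : Prop := ∀ u z, b (t u z) = t (α u) z + polar QW w z • t (ζ u) w

theorem isB_mul {w : W} (hw : QW w = 0) {b b' : V ≃ₗ[F] V} {α α' : U ≃ₗ[F] U} {ζ ζ' : Module.End F U}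
    (h : IsB t QW w b α ζ) (h' : IsB t QW w b' α' ζ') :
    IsB t QW w (b * b') (α * α') (ζ * (α' : Module.End F U) + (α : Module.End F U) * ζ') := by
  intro u z
  rw [LinearEquiv.mul_apply, h', map_add, map_smul, h, h, polar_self_of_sing hw, zero_smul, add_zero]
  simp only [LinearMap.add_apply, Module.End.mul_apply, LinearEquiv.coe_coe, map_add, LinearMap.add_apply,
    smul_add, LinearEquiv.mul_apply]
  abel

theorem isB_inv (_S : TSt t QU QW Q) {w : W} (hw : QW w = 0) {b : V ≃ₗ[F] V} {α : U ≃ₗ[F] U} {ζ : Module.End F U}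
    (h : IsB t QW w b α ζ) : IsB t QW w b⁻¹ α⁻¹
      (-(((α⁻¹ : U ≃ₗ[F] U) : Module.End F U) * ζ * ((α⁻¹ : U ≃ₗ[F] U) : Module.End F U))) := by
  intro u z
  have h2 : ∀ y, α (α⁻¹ y) = y := fun y => LinearEquiv.apply_symm_apply α y
  have h1 : b (t (α⁻¹ u) z + polar QW w z • t ((-(((α⁻¹ : U ≃ₗ[F] U) : Module.End F U) * ζ *
      ((α⁻¹ : U ≃ₗ[F] U) : Module.End F U))) u) w) = t u z := by
    rw [map_add, map_smul, h, h, polar_self_of_sing hw, zero_smul, add_zero, h2]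
    simp only [LinearMap.neg_apply, Module.End.mul_apply, LinearEquiv.coe_coe, map_neg, h2]
    module
  rw [← h1]
  exact LinearEquiv.symm_apply_apply b _

theorem isB_one {w : W} : IsB t QW w (1 : V ≃ₗ[F] V) 1 0 := by
  intro u z
  simp

theorem isB_comm_siegel (S : TSt t QU QW Q) {w x : W} (hw : QW w = 0) (hx : polar QW w x = 0) {b : V ≃ₗ[F] V}
    {α : U ≃ₗ[F] U} {ζ : Module.End F U} (h : IsB t QW w b α ζ) :
    b * rW S.ten (siegel QW w x hw hx) = rW S.ten (siegel QW w x hw hx) * b := by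
  have hsw : siegel QW w x hw hx w = w := by
    rw [siegel_apply, polar_self_of_sing hw, polar_comm QW x w, hx]; simp
  refine ext_t' S.ten fun u z => ?_
  rw [LinearEquiv.mul_apply, LinearEquiv.mul_apply, rW_apply, h, h, map_add, map_smul, rW_apply, rW_apply, hsw]
  congr 2
  have := polar_map (siegel_mem_O hw hx) w z
  rw [hsw] at this
  exact this

/-- elements of `IsB` with `α`, in the presence of thinness: unique -/
theorem isB_isometry (S : TSt t QU QW Q) {w w' : W} (hyp : Hyp QW w w') {b : V ≃ₗ[F] V} (hb : b ∈ O Q)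
    {α : U ≃ₗ[F] U} (hα : α ∈ O QU) {ζ : Module.End F U} (h : IsB t QW w b α ζ) (u u' : U) :
    polar QU (α u) (ζ u') + polar QU (ζ u) (α u') = 0 := by
  have h1 := polar_map hb (t u w') (t u' w')
  rw [h, h] at h1
  simp only [polar_add_left, polar_add_right, polar_smul_left, polar_smul_right, S.pol, hyp.pair, hyp.pair',
    hyp.polar_left, hyp.polar_right, polar_map hα, smul_eq_mul] at h1
  linear_combination h1

/-- the commutator with an element of `W` -/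
theorem theta_scalar (S : TSt t QU QW Q) {w : W} (hw : QW w = 0) (hw0 : w ≠ 0)
    (hrad : ∀ g ∈ X, ∀ τ, IsR t QW w g τ → ∃ (x : W) (hx : polar QW w x = 0),
      g = rW S.ten (siegel QW w x hw hx))
    {α : U ≃ₗ[F] U} {c r : V ≃ₗ[F] V} {τ : W →ₗ[F] U →ₗ[F] U} (hc : c ∈ X) (hcr : c = rU S.ten α * r)
    (hr : IsR t QW w r τ) {h : W ≃ₗ[F] W} (hhX : rW S.ten h ∈ X) (hh : h ∈ O QW) {c0 : F} (hc0 : c0 ≠ 0)
    (hhw : h w = c0 • w) (z : W) (hz : polar QW w z = 0) :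
    ∃ a : F, ∀ u, τ z u - c0 • τ (h⁻¹ z) u = a • u := by
  -- inverse of `r`
  have hri1 : ∀ u, r⁻¹ (t u w) = t u w := by
    intro u
    have h2 : r⁻¹ (r (t u w)) = t u w := LinearEquiv.symm_apply_apply r _
    rwa [hr.1] at h2
  have hri2 : ∀ u z, polar QW w z = 0 → r⁻¹ (t u z) = t u z - t (τ z u) w := by
    intro u z hz
    have h1 : r (t u z - t (τ z u) w) = t u z := by
      rw [map_sub, hr.2 u z hz, hr.1]; abel
    have h2 : r⁻¹ (r (t u z - t (τ z u) w)) = t u z - t (τ z u) w := LinearEquiv.symm_apply_apply r _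
    rwa [h1] at h2
  have hhi : ∀ y, h (h⁻¹ y) = y := fun y => LinearEquiv.apply_symm_apply h y
  have hhi' : ∀ y, h⁻¹ (h y) = y := fun y => LinearEquiv.symm_apply_apply h y
  have hhwi : h⁻¹ w = c0⁻¹ • w := by
    have : h⁻¹ (c0 • w) = w := by rw [← hhw, hhi']
    rw [map_smul] at this
    rw [← this, smul_smul, inv_mul_cancel₀ hc0, one_smul, this]
  have hperp : ∀ z, polar QW w z = 0 → polar QW w (h⁻¹ z) = 0 := by
    intro z hz
    have h1 := polar_map hh w (h⁻¹ z)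
    rw [hhi, hhw, polar_smul_left, hz, smul_zero] at h1
    exact h1.symm
  have hHi : ∀ u z, (rW S.ten h)⁻¹ (t u z) = t u (h⁻¹ z) := fun u z => by rw [← map_inv, rW_apply]
  -- `r1 = r h r⁻¹ h⁻¹`
  set r1 := r * rW S.ten h * r⁻¹ * (rW S.ten h)⁻¹ with hr1
  have e1 : ∀ u, r1 (t u w) = t u w := by
    intro u
    show r (rW S.ten h (r⁻¹ ((rW S.ten h)⁻¹ (t u w)))) = _
    rw [hHi, hhwi, map_smul, map_smul, hri1, map_smul, rW_apply, hhw, map_smul, map_smul (t u) c0 w,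
      map_smul r c0, smul_smul, inv_mul_cancel₀ hc0, one_smul, hr.1]
  have e2 : ∀ u z, polar QW w z = 0 → r1 (t u z) = t u z + t (τ z u - c0 • τ (h⁻¹ z) u) w := by
    intro u z hz
    show r (rW S.ten h (r⁻¹ ((rW S.ten h)⁻¹ (t u z)))) = _
    rw [hHi, hri2 u _ (hperp z hz), map_sub, rW_apply, rW_apply, hhi, hhw, map_sub, map_smul, map_smul,
      hr.2 u z hz, hr.1, map_sub, map_smul]
    simp only [LinearMap.sub_apply, LinearMap.smul_apply, map_smul]
    abel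
  set g := c * rW S.ten h * c⁻¹ * (rW S.ten h)⁻¹ with hg
  have hgX : g ∈ X := X.mul_mem (X.mul_mem (X.mul_mem hc hhX) (X.inv_mem hc)) (X.inv_mem hhX)
  have hgr : g = rU S.ten α * r1 * (rU S.ten α)⁻¹ := by
    have hcomm : (rU S.ten α)⁻¹ * (rW S.ten h)⁻¹ = (rW S.ten h)⁻¹ * (rU S.ten α)⁻¹ := by
      rw [← mul_inv_rev, ← mul_inv_rev, rU_rW]
    rw [hg, hr1, hcr, mul_inv_rev]
    calc rU S.ten α * r * rW S.ten h * (r⁻¹ * (rU S.ten α)⁻¹) * (rW S.ten h)⁻¹
        = rU S.ten α * (r * rW S.ten h * r⁻¹) * ((rU S.ten α)⁻¹ * (rW S.ten h)⁻¹) := by group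
      _ = _ := by rw [hcomm]; group
  have hαi : ∀ y, α (α⁻¹ y) = y := fun y => LinearEquiv.apply_symm_apply α y
  have hαi' : ∀ y, α⁻¹ (α y) = y := fun y => LinearEquiv.symm_apply_apply α y
  have hUi : ∀ u z, (rU S.ten α)⁻¹ (t u z) = t (α⁻¹ u) z := fun u z => by rw [← map_inv, rU_apply]
  have hgR : IsR t QW w g (LinearMap.llcomp F U U U (α : U →ₗ[F] U) ∘ₗ
      (((LinearMap.lcomp F U ((α⁻¹ : U ≃ₗ[F] U) : U →ₗ[F] U)) ∘ₗ (τ - c0 • (τ ∘ₗ ((h⁻¹ : W ≃ₗ[F] W) : W →ₗ[F] W)))))) := by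
    refine ⟨fun u => ?_, fun u z hz => ?_⟩
    · rw [hgr]
      show rU S.ten α (r1 ((rU S.ten α)⁻¹ (t u w))) = _
      rw [hUi, e1, rU_apply, hαi]
    · rw [hgr]
      show rU S.ten α (r1 ((rU S.ten α)⁻¹ (t u z))) = _
      rw [hUi, e2 _ z hz, map_add, rU_apply, rU_apply, hαi]
      rfl
  obtain ⟨x, hx, hgx⟩ := hrad g hgX _ hgR
  refine ⟨-(polar QW x z), fun u => ?_⟩
  have h1 := hgR.2 (α u) z hz
  rw [hgx, (S.isR_siegel hw hx).2 (α u) z hz] at h1
  have h3 := t_left_inj S.ten hw0 (add_left_cancel h1)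
  have h4 : (LinearMap.llcomp F U U U (α : U →ₗ[F] U) ∘ₗ
      (((LinearMap.lcomp F U ((α⁻¹ : U ≃ₗ[F] U) : U →ₗ[F] U)) ∘ₗ (τ - c0 • (τ ∘ₗ ((h⁻¹ : W ≃ₗ[F] W) : W →ₗ[F] W))))))
      z (α u) = α (τ z (α⁻¹ (α u)) - c0 • τ (h⁻¹ z) (α⁻¹ (α u))) := rfl
  rw [h4, hαi'] at h3
  have h5 : α (-(polar QW x z) • u) = α (τ z u - c0 • τ (h⁻¹ z) u) := by
    rw [← h3, map_smul]
    simp only [LinearMap.neg_apply, LinearMap.smulRight_apply, LinearMap.smul_apply, LinearMap.id_apply,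
      polarBilin_apply_apply]
    module
  exact (α.injective h5).symm

/-- From scalar parameters to `IsB`. -/
theorem isB_of_scalar (S : TSt t QU QW Q) [FiniteDimensional F U] [FiniteDimensional F W] [Nontrivial U]
    (hQ : Nondeg Q) {w : W} (hw : QW w = 0) (hw0 : w ≠ 0) {α : U ≃ₗ[F] U} {c r : V ≃ₗ[F] V}
    {τ : W →ₗ[F] U →ₗ[F] U} (hcr : c = rU S.ten α * r) (hrO : r ∈ O Q)
    (hr : IsR t QW w r τ) (hscal : ∀ y, polar QW w y = 0 → ∃ c : F, ∀ u, τ y u = c • u) :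
    ∃ (x : W) (hx : polar QW w x = 0) (ζ : Module.End F U),
      IsB t QW w (c * (rW S.ten (siegel QW w x hw hx))⁻¹) α ζ := by
  obtain ⟨x, hx, κ, -, hκ⟩ := eq_siegel_mul S (X := O Q) le_rfl hQ hw hw0 hrO hr
    (fun x hx => S.rW_mem_O (siegel_mem_O hw hx)) hscal
  refine ⟨x, hx, (α : Module.End F U) * κ, fun u z => ?_⟩
  rw [hcr, mul_assoc]
  show rU S.ten α ((r * (rW S.ten (siegel QW w x hw hx))⁻¹) (t u z)) = _
  rw [hκ, map_add, map_smul, rU_apply, rU_apply]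
  rfl

/-- the torus argument for the central part -/
theorem zeta_torus (S : TSt t QU QW Q) {w : W} (hw : QW w = 0) 
    (hZ : ∀ κ, InZ t QW X w κ → κ = 0) {α : U ≃ₗ[F] U} {ζ : Module.End F U} {c : V ≃ₗ[F] V} (hc : c ∈ X)
    (hcB : IsB t QW w c α ζ) {h : W ≃ₗ[F] W} (hhX : rW S.ten h ∈ X) (hh : h ∈ O QW) {c0 : F}
    (hc1 : c0 * c0 ≠ 1) (hhw : h w = c0 • w) : ζ = 0 := by
  have hhi : ∀ y, h (h⁻¹ y) = y := fun y => LinearEquiv.apply_symm_apply h y
  have hαi : ∀ y, α (α⁻¹ y) = y := fun y => LinearEquiv.apply_symm_apply α y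
  have hαi' : ∀ y, α⁻¹ (α y) = y := fun y => LinearEquiv.symm_apply_apply α y
  have hHi : ∀ u z, (rW S.ten h)⁻¹ (t u z) = t u (h⁻¹ z) := fun u z => by rw [← map_inv, rW_apply]
  have hpol : ∀ z, polar QW w (h⁻¹ z) = c0 * polar QW w z := by
    intro z
    have h1 := polar_map hh w (h⁻¹ z)
    rw [hhi, hhw, polar_smul_left, smul_eq_mul] at h1
    exact h1.symm
  have hci := isB_inv S hw hcB
  have h1 : InZ t QW X w ((1 - c0 * c0) • (ζ * ((α⁻¹ : U ≃ₗ[F] U) : Module.End F U))) := by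
    refine ⟨c * rW S.ten h * c⁻¹ * (rW S.ten h)⁻¹,
      X.mul_mem (X.mul_mem (X.mul_mem hc hhX) (X.inv_mem hc)) (X.inv_mem hhX), fun u z => ?_⟩
    show c (rW S.ten h (c⁻¹ ((rW S.ten h)⁻¹ (t u z)))) = _
    rw [hHi, hci, map_add, map_smul, rW_apply, rW_apply, hhi, hhw, hpol, map_add, map_smul, map_smul, map_smul,
      hcB, hcB, polar_self_of_sing hw, zero_smul, add_zero, hαi]
    simp only [LinearMap.neg_apply, Module.End.mul_apply, LinearEquiv.coe_coe, map_neg, hαi, LinearMap.smul_apply,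
      map_smul]
    module
  have h2 := hZ _ h1
  have h3 : (1 - c0 * c0) ≠ 0 := fun h => hc1 (by linear_combination -h)
  have h4 := (smul_eq_zero.1 h2).resolve_left h3
  refine LinearMap.ext fun u => ?_
  have h5 := LinearMap.congr_fun h4 (α u)
  rw [Module.End.mul_apply, LinearEquiv.coe_coe, hαi'] at h5
  exact h5

end gen

end Cfsg.Agent.H883.C7
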