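import Cfsg.Agent.H883.C7.Base
import Cfsg.Agent.H882.Ten.RadTwo
import Cfsg.Agent.H882.Ten.Stab

/-!
# Common fixed vectors of commuting unipotent elements; the fixed vectors of the Siegel groups; irreducibility
-/

set_option autoImplicit false
set_option linter.unusedSectionVars false
set_option linter.unusedSimpArgs false

namespace Cfsg.Agent.H883.C7

open QuadraticMap hiding proj
open Cfsg.Agent.LieClassical.OrthCore Cfsg.Agent.LieClassical.OrthTrans
open Cfsg.Agent.H882.Ten

/-- Commuting locally nilpotent maps have a common "kernel" modulo `E0`. -/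
theorem exists_common {G I : Type*} [Zero G] (D : I → G → G) (hcomm : ∀ i j g, D i (D j g) = D j (D i g))
    (E E0 : Set G) (h0 : (0 : G) ∈ E0) (hE : ∀ i, ∀ g ∈ E, D i g ∈ E) (hE0 : ∀ i, ∀ g ∈ E0, D i g ∈ E0)
    (hnil : ∀ i, ∃ n : ℕ, ∀ g ∈ E, (D i)^[n] g = 0) {a : G} (ha : a ∈ E) (ha0 : a ∉ E0) (S : Finset I) :
    ∃ b ∈ E, b ∉ E0 ∧ ∀ i ∈ S, D i b ∈ E0 := by
  classical
  induction S using Finset.induction_on with
  | empty => exact ⟨a, ha, ha0, by simp⟩
  | insert i S hi ih =>
    obtain ⟨b, hb, hb0, hbS⟩ := ih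
    have hit : ∀ n : ℕ, (D i)^[n] b ∈ E := by
      intro n
      induction n with
      | zero => exact hb
      | succ n ih => rw [Function.iterate_succ_apply']; exact hE i _ ih
    have hit0 : ∀ j ∈ S, ∀ n : ℕ, D j ((D i)^[n] b) ∈ E0 := by
      intro j hj n
      have h1 : D j ((D i)^[n] b) = (D i)^[n] (D j b) := by
        induction n with
        | zero => rfl
        | succ n ih => rw [Function.iterate_succ_apply', Function.iterate_succ_apply', hcomm, ih]
      rw [h1]
      clear h1
      induction n with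
      | zero => exact hbS j hj
      | succ n ih => rw [Function.iterate_succ_apply']; exact hE0 i _ ih
    have hex : ∃ n : ℕ, (D i)^[n] b ∈ E0 := by
      obtain ⟨n, hn⟩ := hnil i
      exact ⟨n, by rw [hn b hb]; exact h0⟩
    have hn0 : Nat.find hex ≠ 0 := by
      intro h
      have := Nat.find_spec hex
      rw [h] at this
      exact hb0 this
    obtain ⟨m, hm⟩ := Nat.exists_eq_succ_of_ne_zero hn0
    refine ⟨(D i)^[m] b, hit m, ?_, ?_⟩
    · exact Nat.find_min hex (by omega)
    · intro j hj
      rcases Finset.mem_insert.1 hj with rfl | hj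
      · rw [← Function.iterate_succ_apply' (D j)]
        have := Nat.find_spec hex
        rw [hm] at this
        exact this
      · exact hit0 j hj m

section one

variable {F : Type*} [Field F] {V : Type*} [AddCommGroup V] [Module F V] {q : QuadraticForm F V}

/-- `n_z = w ∧ z` -/
def nn (q : QuadraticForm F V) (w z : V) : Module.End F V :=
  (polarBilin q w).smulRight z - (polarBilin q z).smulRight w

theorem nn_apply (w z v : V) : nn q w z v = polar q w v • z - polar q z v • w := rfl

/-- `om w v = B(w, v) w` -/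
def om (q : QuadraticForm F V) (w : V) : Module.End F V := (polarBilin q w).smulRight w

theorem om_apply (w v : V) : om q w v = polar q w v • w := rfl

theorem siegel_eq {w z : V} (hw : q w = 0) (hz : polar q w z = 0) :
    ((siegel q w z hw hz : V ≃ₗ[F] V) : Module.End F V) = 1 + nn q w z - q z • om q w := by
  ext v
  rw [LinearEquiv.coe_coe, siegel_apply, LinearMap.sub_apply, LinearMap.add_apply, LinearMap.smul_apply,
    Module.End.one_apply, nn_apply, om_apply]
  module

theorem nn_sq {w z : V} (hw : q w = 0) (hz : polar q w z = 0) : nn q w z * nn q w z = (-(2 * q z)) • om q w := by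
  ext v
  have h1 : polar q z w = 0 := by rw [polar_comm]; exact hz
  simp only [Module.End.mul_apply, nn_apply, polar_sub_right, polar_smul_right, hz, h1, polar_self_of_sing hw,
    polar_self' z, LinearMap.smul_apply, om_apply, smul_eq_mul]
  module

theorem nn_mul_perp {w z z' : V} (hw : q w = 0) (hz : polar q w z = 0) (hz' : polar q w z' = 0)
    : nn q w z * nn q w z' = (-(polar q z z')) • om q w := by
  ext v
  have h1 : polar q z w = 0 := by rw [polar_comm]; exact hz
  simp only [Module.End.mul_apply, nn_apply, polar_sub_right, polar_smul_right, hz, hz', h1, polar_self_of_sing hw,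
    LinearMap.smul_apply, om_apply, smul_eq_mul]
  module

theorem nn_om {w z : V} (hw : q w = 0) (hz : polar q w z = 0) : nn q w z * om q w = 0 := by
  ext v
  have h1 : polar q z w = 0 := by rw [polar_comm]; exact hz
  simp [Module.End.mul_apply, nn_apply, om_apply, h1, polar_self_of_sing hw]

theorem om_nn {w z : V} (hw : q w = 0) (hz : polar q w z = 0) : om q w * nn q w z = 0 := by
  ext v
  simp [Module.End.mul_apply, nn_apply, om_apply, hz, polar_self_of_sing hw, polar_sub_right, polar_smul_right]

theorem om_om {w : V} (hw : q w = 0) : om q w * om q w = 0 := by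
  ext v
  simp [Module.End.mul_apply, om_apply, polar_self_of_sing hw, polar_smul_right]

theorem siegel_sub_one_cube {w z : V} (hw : q w = 0) (hz : polar q w z = 0) :
    (((siegel q w z hw hz : V ≃ₗ[F] V) : Module.End F V) - 1) ^ 3 = 0 := by
  have h1 := siegel_eq hw hz (F := F)
  have h2 : ((siegel q w z hw hz : V ≃ₗ[F] V) : Module.End F V) - 1 = nn q w z - q z • om q w := by
    rw [h1]; abel
  rw [h2, pow_succ, pow_two]
  have e1 : (nn q w z - q z • om q w) * (nn q w z - q z • om q w) = (-(2 * q z)) • om q w := by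
    rw [mul_sub, sub_mul, sub_mul, nn_sq hw hz, mul_smul_comm, mul_smul_comm, smul_mul_assoc, smul_mul_assoc,
      nn_om hw hz, om_nn hw hz, om_om hw]
    simp
  rw [e1, mul_sub, smul_mul_assoc, om_nn hw hz, mul_smul_comm, smul_mul_assoc, om_om hw]
  simp

end one

variable {F : Type*} [Field F] {κ : Type*} [Fintype κ] [DecidableEq κ] {ι : Type*} [Fintype ι] [DecidableEq ι]
  {q : QuadraticForm F (κ → F)}

/-- the operator of a slot siegel element -/
theorem slE_toEnd (i : ι) (f : (κ → F) ≃ₗ[F] (κ → F)) :
    ((slE i f : ((ι → κ) → F) ≃ₗ[F] ((ι → κ) → F)) : Module.End F ((ι → κ) → F)) =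
      sl i (f : Module.End F (κ → F)) := LinearMap.ext fun v => slE_coe i f v

/-- A vector fixed by the Siegel group of `w` in slot `i` is `a ⊗ w`. -/
theorem fix_slot (h2 : (2 : F) ≠ 0) (hq : Nondeg q) {i : ι} {w : κ → F} (hw : q w = 0) (hw0 : w ≠ 0)
    {v : (ι → κ) → F} (hv : ∀ (z : κ → F) (hz : polar q w z = 0), slE i (siegel q w z hw hz) v = v)
    (hd : ∃ z : κ → F, polar q w z = 0 ∧ q z ≠ 0) :
    ∃ a, v = ten F κ i a w := by
  have S := tst (ι := ι) h2 hq i
  obtain ⟨w', hyp⟩ := LieClassical.OrthTrans.exists_hyp hq hw hw0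
  have key : ∀ (z y : κ → F) (hz : polar q w z = 0),
      S.cw (polar q w y • z - polar q z y • w - (q z * polar q w y) • w) v = 0 := by
    intro z y hz
    have hz' : polar q w (-z) = 0 := by rw [polar_neg_right, hz, neg_zero]
    have h1 := hv (-z) hz'
    have h3 : S.cw (siegel q w z hw hz y) v = S.cw y v := by
      refine S.eq_of_polar fun u => ?_
      rw [← S.polar_cw, ← S.polar_cw]
      have h5 : slE i (siegel q w z hw hz) v = v := hv z hz
      conv_lhs => rw [← h5, ← slE_ten]
      exact polar_map (slE_mem_O h2 i (siegel_mem_O hw hz)) _ _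
    rw [siegel_apply] at h3
    have h4 : S.cw (polar q w y • z - polar q z y • w - (q z * polar q w y) • w) v =
        S.cw (y + polar q w y • z - polar q z y • w - (q z * polar q w y) • w) v - S.cw y v := by
      refine S.eq_of_polar fun u => ?_
      rw [polar_sub_left, ← S.polar_cw, ← S.polar_cw, ← S.polar_cw]
      simp only [map_add, map_sub, map_smul, polar_add_right, polar_sub_right, polar_smul_right]
      ring
    rw [h4, h3, sub_self]
  have hlin : ∀ (c : F) (y : κ → F), S.cw (c • y) v = c • S.cw y v := by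
    intro c y
    refine S.eq_of_polar fun u => ?_
    rw [polar_smul_left, ← S.polar_cw, ← S.polar_cw, map_smul, polar_smul_right]
  have hadd : ∀ (x y : κ → F), S.cw (x + y) v = S.cw x v + S.cw y v := by
    intro x y
    refine S.eq_of_polar fun u => ?_
    rw [polar_add_left, ← S.polar_cw, ← S.polar_cw, ← S.polar_cw, map_add, polar_add_right]
  -- `cw w v = 0`
  obtain ⟨z0, hz0, hz0'⟩ := hd
  have hcw : S.cw w v = 0 := by
    have h1 := key z0 z0 hz0
    rw [hz0, zero_smul, mul_zero, zero_smul, sub_zero, zero_sub, ← neg_smul, hlin] at h1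
    refine (smul_eq_zero.1 h1).resolve_left ?_
    rw [polar_self']
    exact neg_ne_zero.2 (mul_ne_zero h2 hz0')
  have hcz : ∀ z, polar q w z = 0 → S.cw z v = 0 := by
    intro z hz
    have h1 := key z w' hz
    rw [hyp.pair, one_smul, mul_one, sub_sub, ← add_smul, sub_eq_add_neg, ← neg_smul, hadd, hlin, hcw, smul_zero,
      add_zero] at h1
    exact h1
  exact ⟨_, S.eq_t_of_perp (nondeg_QT h2 hq) hyp hcz⟩

/-- The vectors fixed by the Siegel groups of `x i` in all slots are the multiples of `tp x`. -/
theorem fix_pure (h2 : (2 : F) ≠ 0) (hq : Nondeg q) {x : ι → (κ → F)} (hx : ∀ i, q (x i) = 0)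
    (hx0 : ∀ i, x i ≠ 0) {v : (ι → κ) → F}
    (hv : ∀ i (z : κ → F) (hz : polar q (x i) z = 0), slE i (siegel q (x i) z (hx i) hz) v = v)
    (hd : ∀ i, ∃ z : κ → F, polar q (x i) z = 0 ∧ q z ≠ 0) :
    ∃ c : F, v = c • tp x := by
  have h1 : ∀ i, ∃ y, Hyp q (x i) y := fun i => LieClassical.OrthTrans.exists_hyp hq (hx i) (hx0 i)
  choose y hy using h1
  let π : ι → Module.End F (κ → F) := fun i => (polarBilin q (y i)).smulRight (x i)
  have hπ : ∀ i z, π i z = polar q (y i) z • x i := fun i z => rfl
  have hfix : ∀ i, sl i (π i) v = v := by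
    intro i
    obtain ⟨a, ha⟩ := fix_slot h2 hq (hx i) (hx0 i) (hv i) (hd i)
    rw [ha, sl_ten, hπ, (hy i).pair', one_smul]
  have hall : ∀ S : Finset ι, op (fun i => if i ∈ S then π i else 1) v = v := by
    intro S
    induction S using Finset.induction_on with
    | empty => simp only [Finset.notMem_empty, if_false, op_one, Module.End.one_apply]
    | insert i S hi ih =>
      have : op (fun j => if j ∈ insert i S then π j else 1) = op (fun j => if j ∈ S then π j else 1) * sl i (π i) := by
        rw [sl, ← op_mul]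
        congr 1
        funext j
        by_cases hj : j = i
        · subst hj
          rw [if_pos (Finset.mem_insert_self _ _), if_neg hi, Function.update_self, one_mul]
        · rw [Function.update_of_ne hj, mul_one]
          by_cases hjS : j ∈ S
          · rw [if_pos (Finset.mem_insert_of_mem hjS), if_pos hjS]
          · rw [if_neg, if_neg hjS]
            intro h
            rcases Finset.mem_insert.1 h with h | h
            · exact hj h
            · exact hjS h
      rw [this, Module.End.mul_apply, hfix, ih]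
  have h3 := hall Finset.univ
  simp only [Finset.mem_univ, if_true] at h3
  -- the image of `op π` is spanned by `tp x`
  have h4 : ∀ v, ∃ c : F, op π v = c • tp x := by
    have h5 : LinearMap.range (op π) ≤ Submodule.span F {tp x} := by
      rw [LinearMap.range_eq_map, ← (Pi.basisFun F (ι → κ)).span_eq, Submodule.map_span, Submodule.span_le]
      rintro _ ⟨_, ⟨a, rfl⟩, rfl⟩
      rw [Pi.basisFun_apply, single_eq_tp, op_tp]
      have : (fun i => π i (Pi.single (a i) 1)) = fun i => (polar q (y i) (Pi.single (a i) 1)) • x i := rfl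
      rw [this, tp_smul_all]
      exact Submodule.smul_mem _ _ (Submodule.mem_span_singleton_self _)
    intro v
    obtain ⟨c, hc⟩ := Submodule.mem_span_singleton.1 (h5 ⟨v, rfl⟩)
    exact ⟨c, hc.symm⟩
  obtain ⟨c, hc⟩ := h4 v
  exact ⟨c, by rw [← hc, h3]⟩

/-! ### irreducibility -/

/-- A submodule of `U` closed under the Siegel transformations and containing a singular vector is everything. -/
theorem top_of_sing {V : Type*} [AddCommGroup V] [Module F V] {Q : QuadraticForm F V} (h2 : (2 : F) ≠ 0)
    (hQ : Nondeg Q) (hd : 3 ≤ Module.finrank F V) {W : Submodule F V} {x : V} (hx : Q x = 0) (hx0 : x ≠ 0)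
    (hxW : x ∈ W) (hW : ∀ (u z : V) (hu : Q u = 0) (hz : polar Q u z = 0), ∀ v ∈ W, siegel Q u z hu hz v ∈ W) :
    W = ⊤ := by
  obtain ⟨y, hyp⟩ := LieClassical.OrthTrans.exists_hyp hQ hx hx0
  have key : ∀ z, polar Q y z = 0 → z - (polar Q z x + Q z) • y ∈ W := by
    intro z hz
    have h1 := W.sub_mem (hW y z hyp.right hz x hxW) hxW
    rw [siegel_apply, hyp.pair'] at h1
    have e : x + (1 : F) • z - polar Q z x • y - (Q z * 1) • y - x = z - (polar Q z x + Q z) • y := by module
    rwa [e] at h1
  obtain ⟨z, hz1, hz2, hz3⟩ := exists_nonsing_perp hQ hd hyp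
  have hyW : y ∈ W := by
    have h1 := key z hz2
    have h3 := key (-z) (by rw [polar_neg_right, hz2, neg_zero])
    have h4 := W.add_mem h1 h3
    rw [polar_comm Q z x, hz1, polar_neg_left, polar_comm Q z x, hz1, QuadraticMap.map_neg] at h4
    have e : z - (0 + Q z) • y + (-z - (-0 + Q z) • y) = (-(2 * Q z)) • y := by module
    rw [e] at h4
    exact (W.smul_mem_iff (neg_ne_zero.2 (mul_ne_zero h2 hz3))).1 h4
  rw [eq_top_iff]
  intro v _
  have h1 := key (v - polar Q y v • x) (by rw [polar_sub_right, polar_smul_right, hyp.pair']; simp)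
  have h3 := W.add_mem (W.add_mem h1 (W.smul_mem (polar Q (v - polar Q y v • x) x + Q (v - polar Q y v • x)) hyW))
    (W.smul_mem (polar Q y v) hxW)
  have e : v - polar Q y v • x - (polar Q (v - polar Q y v • x) x + Q (v - polar Q y v • x)) • y +
      (polar Q (v - polar Q y v • x) x + Q (v - polar Q y v • x)) • y + polar Q y v • x = v := by module
  rwa [e] at h3

/-- The tensor power is irreducible. -/
theorem top_of_tp (h2 : (2 : F) ≠ 0) (hq : Nondeg q) (hd : 3 ≤ Fintype.card κ)
    {W : Submodule F ((ι → κ) → F)} {x : ι → (κ → F)} (hx : ∀ i, q (x i) = 0) (hx0 : ∀ i, x i ≠ 0)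
    (hxW : tp x ∈ W) (hW : ∀ i (u z : κ → F) (hu : q u = 0) (hz : polar q u z = 0), ∀ v ∈ W,
      slE i (siegel q u z hu hz) v ∈ W) : W = ⊤ := by
  have hall : ∀ S : Finset ι, ∀ y : ι → (κ → F), tp (fun i => if i ∈ S then y i else x i) ∈ W := by
    intro S
    induction S using Finset.induction_on with
    | empty => intro y; simpa using hxW
    | insert i S hi ih =>
      intro y
      let b : ι → (κ → F) := fun j => if j ∈ S then y j else x j
      have hb : b i = x i := if_neg hi
      let L : (κ → F) →ₗ[F] ((ι → κ) → F) := (tpM F ι κ).toLinearMap b i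
      have hL : ∀ u, L u = tp (Function.update b i u) := fun u => rfl
      have htop : W.comap L = ⊤ := by
        refine top_of_sing h2 hq (by rw [Module.finrank_fintype_fun_eq_card]; exact hd) (hx i) (hx0 i) ?_ ?_
        · rw [Submodule.mem_comap, hL, ← hb, Function.update_eq_self]
          exact ih y
        · intro u z hu hz v hv
          rw [Submodule.mem_comap, hL] at hv ⊢
          have h1 := hW i u z hu hz _ hv
          rw [slE_tp, Function.update_self, Function.update_idem] at h1
          exact h1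
      have h1 : y i ∈ W.comap L := by rw [htop]; trivial
      rw [Submodule.mem_comap, hL] at h1
      convert h1 using 2
      funext j
      by_cases hj : j = i
      · subst hj
        rw [Function.update_self, if_pos (Finset.mem_insert_self _ _)]
      · rw [Function.update_of_ne hj]
        show _ = if j ∈ S then y j else x j
        by_cases hjS : j ∈ S
        · rw [if_pos (Finset.mem_insert_of_mem hjS), if_pos hjS]
        · rw [if_neg, if_neg hjS]
          intro h
          rcases Finset.mem_insert.1 h with h | h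
          · exact hj h
          · exact hjS h
  rw [eq_top_iff, ← (Pi.basisFun F (ι → κ)).span_eq, Submodule.span_le]
  rintro _ ⟨a, rfl⟩
  have h1 := hall Finset.univ (fun i => Pi.single (a i) 1)
  simp only [Finset.mem_univ, if_true] at h1
  rw [Pi.basisFun_apply, single_eq_tp]
  exact h1

/-- A non-zero submodule closed under the slot Siegel elements contains `tp x`. -/
theorem tp_mem_of_ne_bot [Finite F] (h2 : (2 : F) ≠ 0) (hq : Nondeg q) (hd : 3 ≤ Fintype.card κ)
    {W : Submodule F ((ι → κ) → F)} {x : ι → (κ → F)} (hx : ∀ i, q (x i) = 0) (hx0 : ∀ i, x i ≠ 0)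
    (hne : W ≠ ⊥) (hW : ∀ i (z : κ → F) (hz : polar q (x i) z = 0), ∀ v ∈ W,
      slE i (siegel q (x i) z (hx i) hz) v ∈ W) : tp x ∈ W := by
  classical
  obtain ⟨a, haW, ha0⟩ := Submodule.exists_mem_ne_zero_of_ne_bot hne
  let I := Σ i : ι, {z : κ → F // polar q (x i) z = 0}
  have : Finite I := inferInstance
  have : Fintype I := Fintype.ofFinite I
  let s : I → (((ι → κ) → F) ≃ₗ[F] ((ι → κ) → F)) := fun j => slE j.1 (siegel q (x j.1) j.2.1 (hx j.1) j.2.2)
  let D : I → ((ι → κ) → F) → ((ι → κ) → F) := fun j v => s j v - v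
  have hs : ∀ j j', s j * s j' = s j' * s j := by
    rintro ⟨i, z, hz⟩ ⟨i', z', hz'⟩
    by_cases h : i = i'
    · subst h
      show slE i _ * slE i _ = slE i _ * slE i _
      rw [← map_mul, ← map_mul, siegel_mul (hx i) hz hz' (by rw [polar_add_right, hz, hz', add_zero]),
        siegel_mul (hx i) hz' hz (by rw [polar_add_right, hz, hz', add_zero])]
      congr 1
      ext v : 1
      rw [siegel_apply, siegel_apply, add_comm z z']
    · exact slE_comm h _ _
  have hcomm : ∀ i j g, D i (D j g) = D j (D i g) := by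
    intro i j g
    show s i (s j g - g) - (s j g - g) = s j (s i g - g) - (s i g - g)
    have h1 : s i (s j g) = s j (s i g) := LinearEquiv.congr_fun (hs i j) g
    rw [map_sub, map_sub, h1]
    abel
  have hDlin : ∀ j v, D j v = (((s j : ((ι → κ) → F) ≃ₗ[F] ((ι → κ) → F)) : Module.End F ((ι → κ) → F)) - 1) v :=
    fun j v => rfl
  have hnil : ∀ j, ∃ n : ℕ, ∀ g ∈ (W : Set ((ι → κ) → F)), (D j)^[n] g = 0 := by
    rintro ⟨i, z, hz⟩
    refine ⟨3, fun g _ => ?_⟩
    have h1 : ∀ n : ℕ, (D ⟨i, z, hz⟩)^[n] g =
        ((((s ⟨i, z, hz⟩ : ((ι → κ) → F) ≃ₗ[F] ((ι → κ) → F)) : Module.End F ((ι → κ) → F)) - 1) ^ n) g := by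
      intro n
      induction n with
      | zero => rfl
      | succ n ih => rw [Function.iterate_succ_apply', ih, pow_succ']; rfl
    rw [h1]
    have h3 : (((s ⟨i, z, hz⟩ : ((ι → κ) → F) ≃ₗ[F] ((ι → κ) → F)) : Module.End F ((ι → κ) → F)) - 1) ^ 3 = 0 := by
      show (((slE i (siegel q (x i) z (hx i) hz) : ((ι → κ) → F) ≃ₗ[F] ((ι → κ) → F)) :
        Module.End F ((ι → κ) → F)) - 1) ^ 3 = 0
      rw [slE_toEnd, ← sl_one i, ← sl_sub, ← slA_apply, ← map_pow, siegel_sub_one_cube, map_zero]
    rw [h3]
    rfl
  obtain ⟨b, hb, hb0, hbS⟩ := exists_common D hcomm (W : Set ((ι → κ) → F)) {0} rfl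
    (fun j g hg => W.sub_mem (hW j.1 j.2.1 j.2.2 g hg) hg)
    (fun j g hg => by
      rw [Set.mem_singleton_iff] at hg ⊢
      subst hg
      show s j 0 - 0 = 0
      rw [map_zero, sub_zero]) hnil haW (by simpa using ha0) Finset.univ
  have hfix : ∀ i (z : κ → F) (hz : polar q (x i) z = 0), slE i (siegel q (x i) z (hx i) hz) b = b := by
    intro i z hz
    have h1 := hbS ⟨i, z, hz⟩ (Finset.mem_univ _)
    exact sub_eq_zero.1 h1
  obtain ⟨c, hc⟩ := fix_pure h2 hq hx hx0 hfix (fun i => by
    obtain ⟨y, hyp⟩ := LieClassical.OrthTrans.exists_hyp hq (hx i) (hx0 i)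
    obtain ⟨z, hz1, _, hz3⟩ := exists_nonsing_perp hq
      (by rw [Module.finrank_fintype_fun_eq_card]; exact hd) hyp
    exact ⟨z, hz1, hz3⟩)
  have hc0 : c ≠ 0 := by
    rintro rfl
    rw [zero_smul] at hc
    exact hb0 hc
  rw [hc] at hb
  exact (W.smul_mem_iff hc0).1 hb

end Cfsg.Agent.H883.C7
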