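import Cfsg.Agent.H883.C7.Common

/-!
# Commutative sets of operators invariant under the slot groups are scalar
-/

set_option autoImplicit false
set_option linter.unusedSectionVars false
set_option linter.unusedSimpArgs false

namespace Cfsg.Agent.H883.C7

open QuadraticMap hiding proj
open Cfsg.Agent.LieClassical.OrthCore Cfsg.Agent.LieClassical.OrthTrans
open Cfsg.Agent.H882.Ten

section cj

variable {F : Type*} [Field F] {V : Type*} [AddCommGroup V] [Module F V]

theorem cj_mul' (k : V ≃ₗ[F] V) (a b : Module.End F V) : cj k (a * b) = cj k a * cj k b := by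
  ext v
  rw [Module.End.mul_apply, cj_apply, cj_apply, cj_apply, Module.End.mul_apply]
  have : k⁻¹ (k (b (k⁻¹ v))) = b (k⁻¹ v) := LinearEquiv.symm_apply_apply k _
  rw [this]

theorem cj_sub' (k : V ≃ₗ[F] V) (a b : Module.End F V) : cj k (a - b) = cj k a - cj k b := by
  ext v
  rw [LinearMap.sub_apply, cj_apply, cj_apply, cj_apply, LinearMap.sub_apply, map_sub]

theorem cj_add' (k : V ≃ₗ[F] V) (a b : Module.End F V) : cj k (a + b) = cj k a + cj k b := by
  ext v
  rw [LinearMap.add_apply, cj_apply, cj_apply, cj_apply, LinearMap.add_apply, map_add]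

theorem cj_smul' (k : V ≃ₗ[F] V) (c : F) (a : Module.End F V) : cj k (c • a) = c • cj k a := by
  ext v
  rw [LinearMap.smul_apply, cj_apply, cj_apply, LinearMap.smul_apply, map_smul]

theorem cj_one' (k : V ≃ₗ[F] V) : cj k (1 : Module.End F V) = 1 := by
  ext v
  rw [cj_apply]
  exact LinearEquiv.apply_symm_apply k v

theorem cj_cj (k l : V ≃ₗ[F] V) (a : Module.End F V) : cj k (cj l a) = cj (k * l) a := by
  ext v
  rw [cj_apply, cj_apply, cj_apply, mul_inv_rev]
  rfl

theorem one_cj (a : Module.End F V) : cj (1 : V ≃ₗ[F] V) a = a := by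
  ext v
  rw [cj_apply, inv_one]
  rfl

/-- `k a = (cj k a) k` -/
theorem toEnd_mul_eq (k : V ≃ₗ[F] V) (a : Module.End F V) :
    (k : Module.End F V) * a = cj k a * (k : Module.End F V) := by
  ext v
  rw [Module.End.mul_apply, Module.End.mul_apply, cj_apply, LinearEquiv.coe_coe]
  have : k⁻¹ (k v) = v := LinearEquiv.symm_apply_apply k v
  rw [this]

theorem cj_eq_iff (k : V ≃ₗ[F] V) (a b : Module.End F V) :
    cj k a = b ↔ (k : Module.End F V) * a = b * (k : Module.End F V) := by
  constructor
  · rintro rfl; exact toEnd_mul_eq k a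
  · intro h
    ext v
    have h1 := LinearMap.congr_fun h (k⁻¹ v)
    rw [Module.End.mul_apply, Module.End.mul_apply, LinearEquiv.coe_coe] at h1
    rw [cj_apply, h1]
    congr 1
    exact LinearEquiv.apply_symm_apply k v

end cj

variable {F : Type*} [Field F] {κ : Type*} [Fintype κ] [DecidableEq κ] {ι : Type*} [Fintype ι] [DecidableEq ι]
  {q : QuadraticForm F (κ → F)}

theorem sl_inj {x : κ → F} (hx : x ≠ 0) {i : ι} {f g : Module.End F (κ → F)} (h : sl i f = sl i g) : f = g := by
  refine LinearMap.ext fun u => ?_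
  have hne : tp (fun _ : {j // j ≠ i} => x) ≠ 0 := tp_ne_zero fun _ => hx
  have h1 := LinearMap.congr_fun h (ten F κ i (tp fun _ => x) u)
  rw [sl_ten, sl_ten] at h1
  exact t_right_inj (isTen F κ i) hne h1

theorem sl_eq_zero {x : κ → F} (hx : x ≠ 0) {i : ι} {f : Module.End F (κ → F)} (h : sl i f = 0) : f = 0 :=
  sl_inj hx (i := i) (by rw [h, ← slA_apply, map_zero])

/-- An operator commuting with the Siegel group of `x` (slot `i`) up to scalars commutes with it. -/
theorem lam_zero (h2 : (2 : F) ≠ 0) (hq : Nondeg q)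
    (hF : 4 ≤ Fintype.card κ ∨ ∃ c : F, c ≠ 0 ∧ c * c ≠ 1) {x : κ → F} (hx : q x = 0) (hx0 : x ≠ 0) (i : ι)
    {α : Module.End F ((ι → κ) → F)}
    (h : ∀ (z : κ → F) (hz : polar q x z = 0), ∃ c : F, cj (slE i (siegel q x z hx hz)) α - α = c • 1)
    (z : κ → F) (hz : polar q x z = 0) : cj (slE i (siegel q x z hx hz)) α = α := by
  obtain ⟨x', hyp⟩ := LieClassical.OrthTrans.exists_hyp hq hx hx0
  let Ω : Module.End F ((ι → κ) → F) := sl i (om q x)
  let N : (κ → F) → Module.End F ((ι → κ) → F) := fun z => sl i (nn q x z)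
  have hs : ∀ (z : κ → F) (hz : polar q x z = 0),
      ((slE i (siegel q x z hx hz) : ((ι → κ) → F) ≃ₗ[F] ((ι → κ) → F)) : Module.End F ((ι → κ) → F)) =
        1 + N z - q z • Ω := by
    intro z hz
    rw [slE_toEnd, siegel_eq, sl_sub, sl_add, sl_one, sl_smul]
  -- the commutator with `N z`
  have hcomm : ∀ (z : κ → F) (hz : polar q x z = 0), ∃ c : F,
      cj (slE i (siegel q x z hx hz)) α - α = c • 1 ∧ N z * α - α * N z = c • (1 - q z • Ω) := by
    intro z hz
    have hz' : polar q x (-z) = 0 := by rw [polar_neg_right, hz, neg_zero]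
    obtain ⟨c, hc⟩ := h z hz
    obtain ⟨c', hc'⟩ := h (-z) hz'
    have e1 : cj (slE i (siegel q x z hx hz)) α = α + c • 1 := by rw [← hc]; abel
    have e2 : cj (slE i (siegel q x (-z) hx hz')) α = α + c' • 1 := by rw [← hc']; abel
    have hinv : slE i (siegel q x z hx hz) * slE i (siegel q x (-z) hx hz') = (1 : ((ι → κ) → F) ≃ₗ[F] ((ι → κ) → F)) := by
      rw [← map_mul, siegel_mul hx hz hz' (by rw [add_neg_cancel, polar_zero_right])]
      have : siegel q x (z + -z) hx (by rw [add_neg_cancel, polar_zero_right]) = 1 := by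
        ext v : 1
        rw [siegel_apply, add_neg_cancel, polar_zero_left, QuadraticMap.map_zero]
        simp
      rw [this, map_one]
    have e3 : c' = -c := by
      have h3 := congrArg (cj (slE i (siegel q x z hx hz))) e2
      rw [cj_cj, hinv, one_cj, cj_add', cj_smul', cj_one', e1] at h3
      have h4 : (c + c') • (1 : Module.End F ((ι → κ) → F)) = 0 := by
        rw [add_smul]
        have h5 : α = α + (c • 1 + c' • 1) := by
          conv_lhs => rw [h3]
          abel
        exact (left_eq_add.1 h5)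
      have h5 : c + c' = 0 := by
        by_contra hne
        have h6 : (1 : Module.End F ((ι → κ) → F)) = 0 := (smul_eq_zero.1 h4).resolve_left hne
        have h7 := LinearMap.congr_fun h6 (tp fun _ : ι => x)
        exact tp_ne_zero (fun _ : ι => hx0) h7
      exact (neg_eq_of_add_eq_zero_right h5).symm
    rw [cj_eq_iff, hs] at e1 e2
    have hN : N (-z) = (-1 : F) • N z := by
      show sl i (nn q x (-z)) = (-1 : F) • sl i (nn q x z)
      rw [← sl_smul]
      congr 1
      refine LinearMap.ext fun v => ?_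
      rw [nn_apply, LinearMap.smul_apply, nn_apply, polar_neg_left]
      module
    rw [hN, QuadraticMap.map_neg, e3] at e2
    refine ⟨c, hc, ?_⟩
    have h3 : (2 : F) • (N z * α - α * N z) = (2 : F) • (c • (1 - q z • Ω)) := by
      simp only [add_mul, sub_mul, mul_add, mul_sub, one_mul, mul_one, smul_mul_assoc, mul_smul_comm] at e1 e2
      linear_combination (norm := module) e1 - e2
    exact smul_right_injective _ h2 h3
  -- it suffices that the scalar is zero
  obtain ⟨c, hc, hcN⟩ := hcomm z hz
  suffices hc0 : c = 0 by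
    rw [hc0, zero_smul, sub_eq_zero] at hc
    exact hc
  by_cases hzs : q z = 0
  · rw [hzs, zero_smul, sub_zero] at hcN
    have hN2 : N z * N z = 0 := by
      show sl i _ * sl i _ = 0
      rw [← sl_mul, nn_sq hx hz, hzs, mul_zero, neg_zero, zero_smul, ← slA_apply, map_zero]
    have h3 : (2 * c) • N z = 0 := by
      have h4 : N z * (N z * α - α * N z) + (N z * α - α * N z) * N z = 0 := by
        rw [mul_sub, sub_mul, ← mul_assoc, hN2, zero_mul, zero_sub, mul_assoc α, hN2, mul_zero, sub_zero,
          mul_assoc]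
        abel
      rw [hcN, mul_smul_comm, smul_mul_assoc, mul_one, one_mul] at h4
      rw [two_mul, add_smul]
      exact h4
    by_contra hc0
    have h4 := (smul_eq_zero.1 h3).resolve_left (mul_ne_zero h2 hc0)
    rw [h4, zero_mul, mul_zero, sub_zero] at hcN
    have h5 := LinearMap.congr_fun hcN.symm (tp fun _ : ι => x)
    rw [LinearMap.smul_apply, Module.End.one_apply, LinearMap.zero_apply] at h5
    exact hc0 ((smul_eq_zero.1 h5).resolve_right (tp_ne_zero fun _ => hx0))
  rcases hF with hF | ⟨a, ha0, ha1⟩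
  · obtain ⟨z', hz'0, hz'⟩ := exists_perp_ne (Q := q) ![x, x', z]
      (by rw [Module.finrank_fintype_fun_eq_card]; omega)
    have h1 : polar q x z' = 0 := hz' 0
    have h1' : polar q x' z' = 0 := hz' 1
    have h1'' : polar q z z' = 0 := hz' 2
    obtain ⟨c', -, hcN'⟩ := hcomm z' h1
    have hNN : N z * N z' = 0 := by
      show sl i _ * sl i _ = 0
      rw [← sl_mul, nn_mul_perp hx hz h1, h1'', neg_zero, zero_smul, ← slA_apply, map_zero]
    have hNΩ : N z * Ω = 0 := by
      show sl i _ * sl i _ = 0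
      rw [← sl_mul, nn_om hx hz, ← slA_apply, map_zero]
    have hΩN : Ω * N z' = 0 := by
      show sl i _ * sl i _ = 0
      rw [← sl_mul, om_nn hx h1, ← slA_apply, map_zero]
    have h3 : N z * (N z' * α - α * N z') + (N z * α - α * N z) * N z' = 0 := by
      rw [mul_sub, sub_mul, ← mul_assoc, hNN, zero_mul, mul_assoc α, hNN, mul_zero, mul_assoc]
      abel
    rw [hcN, hcN', mul_smul_comm, smul_mul_assoc, mul_sub, sub_mul, mul_smul_comm, smul_mul_assoc, hNΩ, hΩN,
      mul_one, one_mul, smul_zero, smul_zero, sub_zero, sub_zero] at h3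
    have h4 : c' • nn q x z + c • nn q x z' = 0 := by
      refine sl_eq_zero hx0 (i := i) ?_
      rw [sl_add, sl_smul, sl_smul]
      exact h3
    have h5 := LinearMap.congr_fun h4 x'
    rw [LinearMap.add_apply, LinearMap.smul_apply, LinearMap.smul_apply, nn_apply, nn_apply, hyp.pair,
      polar_comm q z' x', h1', LinearMap.zero_apply] at h5
    have h6 := congrArg (polar q z) h5
    simp only [polar_add_right, polar_smul_right, polar_sub_right, polar_self', polar_comm q z x, hz, h1'',
      polar_zero_right, smul_eq_mul] at h6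
    have h7 : c' = 0 := by
      have : c' * (2 * q z) = 0 := by linear_combination h6
      exact (mul_eq_zero.1 this).resolve_right (mul_ne_zero h2 hzs)
    rw [h7] at h5
    have h8 : c • z' = 0 := by
      have : (0 : F) • ((1 : F) • z - polar q z x' • x) + c • ((1 : F) • z' - (0 : F) • x) = c • z' := by module
      rw [← this]; exact h5
    exact (smul_eq_zero.1 h8).resolve_right hz'0
  · have haz : polar q x (a • z) = 0 := by rw [polar_smul_right, hz, smul_zero]
    obtain ⟨c', -, hcN'⟩ := hcomm (a • z) haz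
    have hNa : N (a • z) = a • N z := by
      show sl i (nn q x (a • z)) = a • sl i (nn q x z)
      rw [← sl_smul]
      congr 1
      refine LinearMap.ext fun v => ?_
      rw [nn_apply, LinearMap.smul_apply, nn_apply, polar_smul_left, smul_eq_mul]
      module
    rw [hNa, smul_mul_assoc, mul_smul_comm] at hcN'
    have hcN'' : a • (N z * α - α * N z) = c' • (1 - q (a • z) • Ω) := by rw [← hcN']; module
    rw [hcN] at hcN''
    have h3 : (a * c - c') • (1 : Module.End F (κ → F)) - (a * c * q z - c' * q (a • z)) • om q x = 0 := by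
      refine sl_eq_zero hx0 (i := i) ?_
      rw [sl_sub, sl_smul, sl_smul, sl_one]
      have : (a * c - c') • (1 : Module.End F ((ι → κ) → F)) - (a * c * q z - c' * q (a • z)) • sl i (om q x) =
          a • c • (1 - q z • Ω) - c' • (1 - q (a • z) • Ω) := by
        show _ = a • c • (1 - q z • sl i (om q x)) - c' • (1 - q (a • z) • sl i (om q x))
        module
      rw [this, hcN'', sub_self]
    have h5 := LinearMap.congr_fun h3 x'
    rw [LinearMap.sub_apply, LinearMap.smul_apply, LinearMap.smul_apply, om_apply, hyp.pair, one_smul,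
      Module.End.one_apply, LinearMap.zero_apply] at h5
    have h6 := congrArg (polar q x) h5
    have h7 := congrArg (polar q x') h5
    simp only [polar_sub_right, polar_smul_right, hyp.pair, hyp.pair', hyp.polar_left, hyp.polar_right,
      polar_zero_right, smul_eq_mul, mul_one, mul_zero, sub_zero, zero_sub] at h6 h7
    rw [QuadraticMap.map_smul, smul_eq_mul] at h7
    have h8 : c' = a * c := by linear_combination -h6
    rw [h8] at h7
    have h9 : (a * c * q z) * (a * a - 1) = 0 := by linear_combination h7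
    rcases mul_eq_zero.1 h9 with h9 | h9
    · rcases mul_eq_zero.1 h9 with h9 | h9
      · exact (mul_eq_zero.1 h9).resolve_left ha0
      · exact absurd h9 hzs
    · exact absurd (by linear_combination h9) ha1

section nil

variable {V : Type*} [AddCommGroup V] [Module F V]

/-- `Ad k - 1` is nilpotent for unipotent `k`. -/
theorem cj_sub_nil {k : V ≃ₗ[F] V} (h : IsNilpotent ((k : Module.End F V) - 1)) :
    ∃ n : ℕ, ∀ α : Module.End F V, (fun β : Module.End F V => cj k β - β)^[n] α = 0 := by
  let a : Module.End F V := (k : Module.End F V)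
  let b : Module.End F V := ((k⁻¹ : V ≃ₗ[F] V) : Module.End F V)
  have hab : a * b = 1 := LinearMap.ext fun v => LinearEquiv.apply_symm_apply k v
  have hba : b * a = 1 := LinearMap.ext fun v => LinearEquiv.symm_apply_apply k v
  let L : Module.End F (Module.End F V) := LinearMap.mulLeft F a
  let R : Module.End F (Module.End F V) := LinearMap.mulRight F b
  have hLR : Commute L R := LinearMap.commute_mulLeft_right a b
  have hL : IsNilpotent (L - 1) := by
    obtain ⟨n, hn⟩ := h
    refine ⟨n, ?_⟩
    have e : L - 1 = LinearMap.mulLeft F (a - 1) := by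
      refine LinearMap.ext fun x => ?_
      rw [LinearMap.sub_apply, LinearMap.mulLeft_apply, LinearMap.mulLeft_apply, Module.End.one_apply, sub_mul,
        one_mul]
    rw [e, LinearMap.pow_mulLeft, hn]
    refine LinearMap.ext fun x => ?_
    rw [LinearMap.mulLeft_apply, zero_mul, LinearMap.zero_apply]
  have hR : IsNilpotent (R - 1) := by
    have h1 : IsNilpotent (b - 1) := by
      have e : b - 1 = -(b * (a - 1)) := by rw [mul_sub, hba, mul_one, neg_sub]
      rw [e]
      refine IsNilpotent.neg ?_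
      refine Commute.isNilpotent_mul_left ?_ h
      show b * (a - 1) = (a - 1) * b
      rw [mul_sub, sub_mul, hba, hab, mul_one, one_mul]
    obtain ⟨n, hn⟩ := h1
    refine ⟨n, ?_⟩
    have e : R - 1 = LinearMap.mulRight F (b - 1) := by
      refine LinearMap.ext fun x => ?_
      rw [LinearMap.sub_apply, LinearMap.mulRight_apply, LinearMap.mulRight_apply, Module.End.one_apply, mul_sub,
        mul_one]
    rw [e, LinearMap.pow_mulRight, hn]
    refine LinearMap.ext fun x => ?_
    rw [LinearMap.mulRight_apply, mul_zero, LinearMap.zero_apply]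
  have hT : IsNilpotent (L * R - 1) := by
    have e : L * R - 1 = (L - 1) * R + (R - 1) := by rw [sub_mul, one_mul]; abel
    rw [e]
    have c1 : Commute (L - 1) R := hLR.sub_left (Commute.one_left R)
    refine Commute.isNilpotent_add ?_ (Commute.isNilpotent_mul_right c1 hL) hR
    have c2 : Commute (L - 1) (R - 1) := c1.sub_right (Commute.one_right _)
    exact c2.mul_left ((Commute.refl R).sub_right (Commute.one_right R))
  obtain ⟨n, hn⟩ := hT
  refine ⟨n, fun α => ?_⟩
  have h1 : ∀ m : ℕ, (fun β : Module.End F V => cj k β - β)^[m] α = ((L * R - 1) ^ m) α := by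
    intro m
    induction m with
    | zero => rfl
    | succ m ih =>
      rw [Function.iterate_succ_apply', ih, pow_succ']
      rfl
  rw [h1, hn, LinearMap.zero_apply]

/-- Fitting: `ν` is nilpotent if no non-zero `v` in the images of all powers. -/
theorem nilp_of_range [FiniteDimensional F V] (ν : Module.End F V)
    (h : ∀ n : ℕ, LinearMap.range (ν ^ n) ≠ ⊥ → ∃ v ∈ LinearMap.range (ν ^ n), v ≠ 0 ∧ ν v = 0) :
    IsNilpotent ν := by
  obtain ⟨n, -, hn⟩ := Module.End.exists_ker_pow_eq_ker_pow_succ ν
  refine ⟨n, ?_⟩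
  by_contra hne
  have h1 : LinearMap.range (ν ^ n) ≠ ⊥ := by
    intro h0
    exact hne (LinearMap.range_eq_bot.1 h0)
  obtain ⟨v, ⟨u, rfl⟩, hv0, hv⟩ := h n h1
  apply hv0
  have h2 : u ∈ LinearMap.ker (ν ^ n.succ) := by
    rw [LinearMap.mem_ker, pow_succ']
    exact hv
  rw [← hn] at h2
  exact LinearMap.mem_ker.1 h2

end nil

/-- **Commutative families of operators invariant under the slot groups are scalar.** -/
theorem irr [Finite F] (h2 : (2 : F) ≠ 0) (hq : Nondeg q) (hd : 3 ≤ Fintype.card κ)
    (hF : 4 ≤ Fintype.card κ ∨ ∃ c : F, c ≠ 0 ∧ c * c ≠ 1) {x : κ → F} (hx : q x = 0) (hx0 : x ≠ 0)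
    (P : Module.End F ((ι → κ) → F) → Prop)
    (hsub : ∀ α β, P α → P β → P (α - β))
    (hcj : ∀ α, P α → ∀ i (u z : κ → F) (hu : q u = 0) (hz : polar q u z = 0),
      P (cj (slE i (siegel q u z hu hz)) α))
    (hcom : ∀ α β, P α → P β → α * β = β * α) {α : Module.End F ((ι → κ) → F)} (hα : P α) :
    ∃ c : F, α = c • 1 := by
  classical
  by_contra hns
  let X : Set (Module.End F ((ι → κ) → F)) := {β | ∃ c : F, β = c • 1}
  let I := ι × {z : κ → F // polar q x z = 0}
  have : Finite I := inferInstance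
  have : Fintype I := Fintype.ofFinite I
  let s : I → (((ι → κ) → F) ≃ₗ[F] ((ι → κ) → F)) := fun j => slE j.1 (siegel q x j.2.1 hx j.2.2)
  let D : I → Module.End F ((ι → κ) → F) → Module.End F ((ι → κ) → F) := fun j β => cj (s j) β - β
  have hs : ∀ j j', s j * s j' = s j' * s j := by
    rintro ⟨i, z, hz⟩ ⟨i', z', hz'⟩
    by_cases h : i = i'
    · subst h
      show slE i _ * slE i _ = slE i _ * slE i _
      rw [← map_mul, ← map_mul, siegel_mul hx hz hz' (by rw [polar_add_right, hz, hz', add_zero]),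
        siegel_mul hx hz' hz (by rw [polar_add_right, hz, hz', add_zero])]
      congr 1
      ext v : 1
      rw [siegel_apply, siegel_apply, add_comm z z']
    · exact slE_comm h _ _
  have hcomm : ∀ i j g, D i (D j g) = D j (D i g) := by
    intro i j g
    show cj (s i) (cj (s j) g - g) - (cj (s j) g - g) = cj (s j) (cj (s i) g - g) - (cj (s i) g - g)
    rw [cj_sub', cj_sub', cj_cj, cj_cj, hs i j]
    abel
  obtain ⟨α, hα, hα0, hαS⟩ := exists_common D hcomm {β | P β} X ⟨0, by rw [zero_smul]⟩
    (fun j g hg => hsub _ _ (hcj g hg j.1 x j.2.1 hx j.2.2) hg)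
    (by
      rintro j g ⟨c, rfl⟩
      refine ⟨0, ?_⟩
      show cj (s j) (c • 1) - c • 1 = _
      rw [cj_smul', cj_one', sub_self, zero_smul])
    (by
      intro j
      obtain ⟨n, hn⟩ := cj_sub_nil (k := s j) ⟨3, by
        show (((slE j.1 (siegel q x j.2.1 hx j.2.2) : ((ι → κ) → F) ≃ₗ[F] ((ι → κ) → F)) :
          Module.End F ((ι → κ) → F)) - 1) ^ 3 = 0
        rw [slE_toEnd, ← sl_one j.1, ← sl_sub, ← slA_apply, ← map_pow, siegel_sub_one_cube, map_zero]⟩
      exact ⟨n, fun g _ => hn g⟩) hα hns Finset.univ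
  -- `α` commutes with the Siegel groups of `x`
  have hfix : ∀ i (z : κ → F) (hz : polar q x z = 0), cj (slE i (siegel q x z hx hz)) α = α := by
    intro i
    exact lam_zero h2 hq hF hx hx0 i fun z hz => hαS (i, ⟨z, hz⟩) (Finset.mem_univ _)
  set t : (ι → κ) → F := tp (fun _ : ι => x) with ht
  have ht0 : t ≠ 0 := tp_ne_zero fun _ => hx0
  have happ : ∀ i (z : κ → F) (hz : polar q x z = 0) v,
      slE i (siegel q x z hx hz) (α v) = α (slE i (siegel q x z hx hz) v) := by
    intro i z hz v
    have h1 := (cj_eq_iff _ _ _).1 (hfix i z hz)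
    exact LinearMap.congr_fun h1 v
  have hst : ∀ i (z : κ → F) (hz : polar q x z = 0), slE i (siegel q x z hx hz) t = t := by
    intro i z hz
    rw [ht, slE_tp, siegel_apply, polar_self_of_sing hx, polar_comm q z x, hz]
    simp
  have hdd : ∀ _ : ι, ∃ z : κ → F, polar q x z = 0 ∧ q z ≠ 0 := fun _ => by
    obtain ⟨y, hyp⟩ := LieClassical.OrthTrans.exists_hyp hq hx hx0
    obtain ⟨z, hz1, _, hz3⟩ := exists_nonsing_perp hq
      (by rw [Module.finrank_fintype_fun_eq_card]; exact hd) hyp
    exact ⟨z, hz1, hz3⟩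
  obtain ⟨μ, hμ⟩ := fix_pure h2 hq (x := fun _ : ι => x) (fun _ => hx) (fun _ => hx0) (v := α t)
    (fun i z hz => by rw [happ, hst]) hdd
  let ν : Module.End F ((ι → κ) → F) := α - μ • 1
  have hνt : ν t = 0 := by
    show α t - μ • t = 0
    rw [hμ, sub_self]
  have hνs : ∀ i (z : κ → F) (hz : polar q x z = 0) v,
      slE i (siegel q x z hx hz) (ν v) = ν (slE i (siegel q x z hx hz) v) := by
    intro i z hz v
    show slE i (siegel q x z hx hz) (α v - μ • v) = α _ - μ • _
    rw [map_sub, happ, map_smul]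
    rfl
  have hνn : IsNilpotent ν := by
    refine nilp_of_range ν fun n hne => ⟨t, ?_, ht0, hνt⟩
    refine tp_mem_of_ne_bot h2 hq hd (fun _ => hx) (fun _ => hx0) hne ?_
    rintro i z hz _ ⟨u, rfl⟩
    refine ⟨slE i (siegel q x z hx hz) u, ?_⟩
    have : ∀ m : ℕ, (ν ^ m) (slE i (siegel q x z hx hz) u) = slE i (siegel q x z hx hz) ((ν ^ m) u) := by
      intro m
      induction m with
      | zero => rfl
      | succ m ih =>
        rw [pow_succ', Module.End.mul_apply, Module.End.mul_apply, ih, hνs]
    exact this n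
  -- the group generated by the slot Siegel elements
  let A : Set (((ι → κ) → F) ≃ₗ[F] ((ι → κ) → F)) :=
    {k | ∃ (i : ι) (u z : κ → F) (hu : q u = 0) (hz : polar q u z = 0), k = slE i (siegel q u z hu hz)}
  let K := Subgroup.closure A
  have hKP : ∀ k ∈ K, ∀ β, P β ↔ P (cj k β) := by
    have hinv : ∀ i (u z : κ → F) (hu : q u = 0) (hz : polar q u z = 0),
        (slE i (siegel q u z hu hz) : ((ι → κ) → F) ≃ₗ[F] ((ι → κ) → F))⁻¹ =
          slE i (siegel q u (-z) hu (by rw [polar_neg_right, hz, neg_zero])) := by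
      intro i u z hu hz
      rw [← map_inv, siegel_inv hu hz (by rw [polar_neg_right, hz, neg_zero])]
    intro k hk
    induction hk using Subgroup.closure_induction with
    | mem k hk =>
      obtain ⟨i, u, z, hu, hz, rfl⟩ := hk
      intro β
      refine ⟨fun h => hcj β h i u z hu hz, fun h => ?_⟩
      have h1 := hcj _ h i u (-z) hu (by rw [polar_neg_right, hz, neg_zero])
      rw [← hinv i u z hu hz, cj_cj, inv_mul_cancel, one_cj] at h1
      exact h1
    | one => intro β; rw [one_cj]
    | mul a b _ _ ha hb => intro β; rw [hb, ha, cj_cj]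
    | inv a _ ha => intro β; rw [ha (cj a⁻¹ β), cj_cj, mul_inv_cancel, one_cj]
  have hfinE : Finite (((ι → κ) → F) ≃ₗ[F] ((ι → κ) → F)) :=
    Finite.of_injective (fun g => (g : ((ι → κ) → F) → ((ι → κ) → F))) DFunLike.coe_injective
  have : Finite K := inferInstance
  have : Fintype K := Fintype.ofFinite K
  have hcjν : ∀ k : ((ι → κ) → F) ≃ₗ[F] ((ι → κ) → F), cj k ν = cj k α - μ • 1 := by
    intro k
    show cj k (α - μ • 1) = _
    rw [cj_sub', cj_smul', cj_one']
  have hcomν : ∀ k ∈ K, ∀ k' ∈ K, cj k ν * cj k' ν = cj k' ν * cj k ν := by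
    intro k hk k' hk'
    have h1 := hcom _ _ ((hKP k hk α).1 hα) ((hKP k' hk' α).1 hα)
    rw [hcjν, hcjν, sub_mul, sub_mul, mul_sub, mul_sub, mul_sub, mul_sub, h1]
    simp only [smul_mul_assoc, mul_smul_comm, one_mul, mul_one]
    abel
  obtain ⟨b, -, hb0, hbK⟩ := exists_common (fun (k : K) (v : (ι → κ) → F) => cj k.1 ν v)
    (fun k k' v => LinearMap.congr_fun (hcomν k.1 k.2 k'.1 k'.2) v) Set.univ {0} rfl
    (fun _ _ _ => trivial) (fun k g hg => by
      rw [Set.mem_singleton_iff] at hg ⊢
      rw [hg, map_zero])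
    (by
      intro k
      obtain ⟨n, hn⟩ := hνn
      refine ⟨n, fun g _ => ?_⟩
      have h1 : ∀ m : ℕ, (fun v : (ι → κ) → F => cj k.1 ν v)^[m] g = k.1 ((ν ^ m) (k.1⁻¹ g)) := by
        intro m
        induction m with
        | zero => exact (LinearEquiv.apply_symm_apply k.1 g).symm
        | succ m ih =>
          rw [Function.iterate_succ_apply', ih, cj_apply, pow_succ', Module.End.mul_apply]
          have : k.1⁻¹ (k.1 ((ν ^ m) (k.1⁻¹ g))) = (ν ^ m) (k.1⁻¹ g) := LinearEquiv.symm_apply_apply k.1 _
          rw [this]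
      rw [h1, hn, LinearMap.zero_apply, map_zero]) (Set.mem_univ t) (by simpa using ht0) Finset.univ
  let W : Submodule F ((ι → κ) → F) :=
    { carrier := {v | ∀ k ∈ K, cj k ν v = 0}
      add_mem' := by
        intro a b ha hb k hk
        rw [map_add, ha k hk, hb k hk, add_zero]
      zero_mem' := by
        intro k _
        rw [map_zero]
      smul_mem' := by
        intro c a ha k hk
        rw [map_smul, ha k hk, smul_zero] }
  have hbW : b ∈ W := fun k hk => hbK ⟨k, hk⟩ (Finset.mem_univ _)
  have hWinv : ∀ k ∈ K, ∀ v ∈ W, k v ∈ W := by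
    intro k hk v hv l hl
    have h1 := hv (k⁻¹ * l) (K.mul_mem (K.inv_mem hk) hl)
    rw [← cj_cj, cj_apply, inv_inv] at h1
    have h3 : k (k⁻¹ (cj l ν (k v))) = 0 := by rw [h1, map_zero]
    have h4 : k (k⁻¹ (cj l ν (k v))) = cj l ν (k v) := LinearEquiv.apply_symm_apply k _
    rw [← h4, h3]
  have hWs : ∀ i (u z : κ → F) (hu : q u = 0) (hz : polar q u z = 0), ∀ v ∈ W, slE i (siegel q u z hu hz) v ∈ W :=
    fun i u z hu hz v hv => hWinv _ (Subgroup.subset_closure ⟨i, u, z, hu, hz, rfl⟩) v hv
  have hWne : W ≠ ⊥ := by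
    intro h
    rw [h] at hbW
    exact hb0 ((Submodule.mem_bot F).1 hbW)
  have htW : t ∈ W := tp_mem_of_ne_bot h2 hq hd (fun _ => hx) (fun _ => hx0) hWne
    (fun i z hz v hv => hWs i x z hx hz v hv)
  have hWtop := top_of_tp h2 hq hd (fun _ => hx) (fun _ => hx0) htW hWs
  apply hα0
  refine ⟨μ, ?_⟩
  refine LinearMap.ext fun v => ?_
  have h1 : v ∈ W := by rw [hWtop]; trivial
  have h3 := h1 1 K.one_mem
  rw [one_cj] at h3
  exact sub_eq_zero.1 h3

end Cfsg.Agent.H883.C7
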