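import Cfsg.Agent.H883.C7.LIface

/-!
# Operators commuting with the Siegel elements of the slots `l ≠ i`
-/

set_option autoImplicit false
set_option linter.unusedSectionVars false
set_option linter.unusedSimpArgs false

namespace Cfsg.Agent.H883.C7

open QuadraticMap hiding proj
open Cfsg.Agent.LieClassical.OrthCore Cfsg.Agent.LieClassical.OrthTrans
open Cfsg.Agent.H882.Ten Cfsg.Agent.LieClassical.OrthFinite

variable {F : Type*} [Field F] {κ : Type*} [Fintype κ] [DecidableEq κ] {ι : Type*} [Fintype ι] [DecidableEq ι]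
  {q : QuadraticForm F (κ → F)}

/-- An operator commuting with all slot Siegel elements is scalar. -/
theorem scalar_of_comm (h2 : (2 : F) ≠ 0) (hq : Nondeg q) (hd : 3 ≤ Fintype.card κ) {x : κ → F} (hx : q x = 0)
    (hx0 : x ≠ 0) {T : Module.End F ((ι → κ) → F)}
    (hT : ∀ i (u z : κ → F) (hu : q u = 0) (hz : polar q u z = 0) v,
      T (slE i (siegel q u z hu hz) v) = slE i (siegel q u z hu hz) (T v)) :
    ∃ c : F, ∀ v, T v = c • v := by
  have hdz : ∃ z : κ → F, polar q x z = 0 ∧ q z ≠ 0 := by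
    obtain ⟨y, hyp⟩ := LieClassical.OrthTrans.exists_hyp hq hx hx0
    obtain ⟨z, hz1, _, hz3⟩ := exists_nonsing_perp hq
      (by rw [Module.finrank_fintype_fun_eq_card]; exact hd) hyp
    exact ⟨z, hz1, hz3⟩
  obtain ⟨c, hc⟩ := fix_pure (ι := ι) h2 hq (x := fun _ => x) (v := T (tp fun _ => x)) (fun _ => hx)
    (fun _ => hx0) (fun i z hz => by
      rw [← hT]
      congr 1
      rw [slE_tp]
      have : siegel q x z hx hz x = x := by
        rw [siegel_apply, polar_self_of_sing hx, polar_comm q z x, hz]; simp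
      rw [this, Function.update_eq_self i (fun _ : ι => x)]) (fun _ => hdz)
  refine ⟨c, ?_⟩
  have htop : LinearMap.ker (T - c • LinearMap.id) = ⊤ := by
    refine top_of_tp h2 hq hd (x := fun _ => x) (fun _ => hx) (fun _ => hx0) ?_ ?_
    · rw [LinearMap.mem_ker, LinearMap.sub_apply, LinearMap.smul_apply, LinearMap.id_apply, hc, sub_self]
    · intro i u z hu hz v hv
      rw [LinearMap.mem_ker, LinearMap.sub_apply, LinearMap.smul_apply, LinearMap.id_apply, sub_eq_zero] at hv ⊢
      rw [hT, hv, map_smul]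
  intro v
  have : v ∈ LinearMap.ker (T - c • LinearMap.id) := by rw [htop]; trivial
  rw [LinearMap.mem_ker, LinearMap.sub_apply, LinearMap.smul_apply, LinearMap.id_apply, sub_eq_zero] at this
  exact this

/-- The commutant of the Siegel elements in the slots `l ≠ i` is the slot algebra. -/
theorem comm_slots (h2 : (2 : F) ≠ 0) (hq : Nondeg q) (hd : 3 ≤ Fintype.card κ) {x : κ → F} (hx : q x = 0)
    (hx0 : x ≠ 0) (i : ι) {T : Module.End F ((ι → κ) → F)}
    (hT : ∀ l, l ≠ i → ∀ (u z : κ → F) (hu : q u = 0) (hz : polar q u z = 0) v,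
      T (slE l (siegel q u z hu hz) v) = slE l (siegel q u z hu hz) (T v)) :
    ∃ f : Module.End F (κ → F), ∀ v, T v = sl i f v := by
  have S := tst (ι := ι) h2 hq i
  -- contractions are scalar
  have key : ∀ u0 u1 : κ → F, ∃ c : F, ∀ a, S.cw u0 (T (ten F κ i a u1)) = c • a := by
    intro u0 u1
    refine scalar_of_comm (ι := {j // j ≠ i}) h2 hq hd hx hx0
      (T := S.cw u0 ∘ₗ T ∘ₗ (ten F κ i).flip u1) ?_
    intro l u z hu hz a
    show S.cw u0 (T (ten F κ i (slE l (siegel q u z hu hz) a) u1)) =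
      slE l (siegel q u z hu hz) (S.cw u0 (T (ten F κ i a u1)))
    rw [← slE_sub_ten, hT (l : ι) l.2]
    set v := T (ten F κ i a u1)
    have : S.cw u0 ∘ₗ ((slE (l : ι) (siegel q u z hu hz) : ((ι → κ) → F) ≃ₗ[F] ((ι → κ) → F)) :
        Module.End F ((ι → κ) → F)) =
        ((slE l (siegel q u z hu hz) : (({j // j ≠ i} → κ) → F) ≃ₗ[F] (({j // j ≠ i} → κ) → F)) :
        Module.End F (({j // j ≠ i} → κ) → F)) ∘ₗ S.cw u0 := by
      refine ext_t S.ten fun a u => ?_
      simp only [LinearMap.comp_apply, LinearEquiv.coe_coe]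
      rw [slE_sub_ten, S.cw_t, S.cw_t, map_smul]
    exact LinearMap.congr_fun this v
  choose c hc using key
  -- a pair of dual vectors of the rest
  have hne : tp (fun _ : {j // j ≠ i} => x) ≠ 0 := tp_ne_zero fun _ => hx0
  obtain ⟨y0, hy0⟩ := S.ndU.exists_polar_eq hne 1
  set a0 := tp (fun _ : {j // j ≠ i} => x) with ha0
  let f : Module.End F (κ → F) := S.cu y0 ∘ₗ T ∘ₗ (ten F κ i) a0
  have hf : ∀ u1, f u1 = S.cu y0 (T (ten F κ i a0 u1)) := fun u1 => rfl
  have hf2 : ∀ u0 u1, polar q (f u1) u0 = c u0 u1 := by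
    intro u0 u1
    rw [hf, ← S.polar_cu, S.polar_cw, hc, polar_smul_left, hy0, smul_eq_mul, mul_one]
  refine ⟨f, ?_⟩
  have h3 : T = sl i f := by
    refine ext_t S.ten fun a u => ?_
    rw [sl_ten]
    -- both sides have the same contractions
    have hnd : Nondeg (QT q ι) := nondeg_QT h2 hq
    rw [← sub_eq_zero]
    refine hnd _ fun v => ?_
    have : (polarBilin (QT q ι) (T (ten F κ i a u) - ten F κ i a (f u))) = 0 := by
      refine ext_t S.ten fun a' u' => ?_
      rw [polarBilin_apply_apply, polar_sub_left, S.polar_cw, S.pol, hc, polar_smul_left, hf2, smul_eq_mul,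
        LinearMap.zero_apply]
      ring
    exact LinearMap.congr_fun this v
  intro v
  rw [h3]

end Cfsg.Agent.H883.C7
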